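import Groth.Agent.GeomRk.RkConstr

/-!
Openness of the geometrically normal points of the fibres on the flat locus, and loci of the base where all fibres
have a property.
-/

set_option autoImplicit false
set_option linter.style.haveILetI false
set_option backward.isDefEq.respectTransparency false

universe u

open CategoryTheory CategoryTheory.Limits AlgebraicGeometry Topology Groth.Agent.FibreDepth

namespace Groth.Agent.GeomRk

variable {X Y : Scheme.{u}}

theorem exists_fibreRing_equiv {Z : Scheme.{u}} (j : Z ⟶ X) [IsOpenImmersion j] (f : X ⟶ Y) (z : Z) :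
    Nonempty ((fibreRingAt f (j z) : Type u) ≃+* fibreRingAt (j ≫ f) z) := by
  let s := (j ≫ f) z
  let w := (j ≫ f).asFiber z
  let a := MoreMor.fiberMap j f s
  haveI : IsOpenImmersion a := MorphismProperty.of_isPullback (FlatLocus.isPullback_fiberMap j f s) inferInstance
  have hw : f.fiberι s (a w) = j z := by
    have h := congrArg (fun g : (j ≫ f).fiber s ⟶ X => g w) (FlatLocus.isPullback_fiberMap j f s).w
    simp only [Scheme.Hom.comp_apply] at h
    exact h.symm.trans (congrArg j ((j ≫ f).fiberι_asFiber z))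
  have h : Nonempty ((fibreRingAt f (f.fiberι s (a w)) : Type u) ≃+* fibreRingAt (j ≫ f) z) :=
    (fib_transfer f s (a w) fun y v =>
      Nonempty (((f.fiber y).presheaf.stalk v : Type u) ≃+* fibreRingAt (j ≫ f) z)).2.2
        ⟨(asIso (a.stalkMap w)).commRingCatIsoToRingEquiv⟩
  exact hw ▸ h

theorem isEquidim_congr {R S : Type u} [CommRing R] [CommRing S] (e : R ≃+* S) :
    EGA4.IsEquidim R ↔ EGA4.IsEquidim S :=
  ⟨fun h => DimFormulaLib.Chart.isEquidim_source_iff.isEquidim_of_ringEquiv e h,
    fun h => DimFormulaLib.Chart.isEquidim_source_iff.isEquidim_of_ringEquiv e.symm h⟩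

theorem hasSk_congr {R S : Type u} [CommRing R] [CommRing S] [IsNoetherianRing R] [IsNoetherianRing S]
    (e : R ≃+* S) (j : ℕ) : LocCoh.HasSk j R R ↔ LocCoh.HasSk j S S :=
  ⟨hasSk_of_ringEquiv e j, hasSk_of_ringEquiv e.symm j⟩

variable (f : X ⟶ Y) [LocallyOfFinitePresentation f]

theorem isOpen_fibRk_flat [AlgebraicGeometry.Flat f] (k : ℕ) :
    IsOpen {x : X | FibRk k f x ∧ EGA4.IsEquidim (fibreRingAt f x) ∧
      LocCoh.HasSk 1 (fibreRingAt f x) (fibreRingAt f x)} := by
  convert isOpen_geomRk_locus f k using 1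
  ext x
  exact and_congr
    (forall₃_congr fun x' _ _ => imp_congr_right fun _ => fibre_smooth_iff f x' (Flat.stalkMap f x'))
    (and_congr (isEquidimModule_self_iff _).symm Iff.rfl)

theorem isOpen_fibRk_S2 [AlgebraicGeometry.Flat f] :
    IsOpen {x : X | (FibRk 1 f x ∧ EGA4.IsEquidim (fibreRingAt f x) ∧
        LocCoh.HasSk 1 (fibreRingAt f x) (fibreRingAt f x)) ∧
      LocCoh.HasSk 2 (fibreRingAt f x) (fibreRingAt f x)} := by
  refine (isOpen_fibRk_flat f 1).inter ?_
  convert isOpen_hasSk (exists_isoModel_self f) (FlatLocus.isOpen_flat_stalkMap f) 2 using 1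
  ext x
  exact (and_iff_right (Flat.stalkMap f x)).symm

theorem geomNormal_fin_iff (x : X) :
    (∀ (K : Type u) [Field K] [Algebra (IsLocalRing.ResidueField (Y.presheaf.stalk (f.base x))) K],
        Module.Finite (IsLocalRing.ResidueField (Y.presheaf.stalk (f.base x))) K →
        ∀ x' : ↥(FBase.bc (f.fiberToSpecResidueField (f.base x)) K),
          (FBase.bcπ (f.fiberToSpecResidueField (f.base x)) K).base x' = f.asFiber x →
          IsDomain ((FBase.bc (f.fiberToSpecResidueField (f.base x)) K).presheaf.stalk x') ∧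
            IsIntegrallyClosed ((FBase.bc (f.fiberToSpecResidueField (f.base x)) K).presheaf.stalk x')) ↔
      (FibRk 1 f x ∧ EGA4.IsEquidim (fibreRingAt f x) ∧ LocCoh.HasSk 1 (fibreRingAt f x) (fibreRingAt f x)) ∧
        LocCoh.HasSk 2 (fibreRingAt f x) (fibreRingAt f x) := by
  haveI := isNoetherianRing_fibreRingAt f x
  refine (geomNormal_fibre_iff f (f.base x) (f.asFiber x)).trans (and_congr_left fun _ => and_congr ?_
    (and_congr Iff.rfl (hasSk_one_iff_ass _).symm))
  exact (@geomRk_iff (IsLocalRing.ResidueField (Y.presheaf.stalk (f.base x))) _ _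
    (f.fiberToSpecResidueField (f.base x)) (lft_fibre f _) 1 (f.asFiber x)).trans (fibRk_iff_fibRkAt 1 f x).symm

theorem normalData_comp {Z : Scheme.{u}} (j : Z ⟶ X) [IsOpenImmersion j] (z : Z) :
    ((FibRk 1 (j ≫ f) z ∧ EGA4.IsEquidim (fibreRingAt (j ≫ f) z) ∧
        LocCoh.HasSk 1 (fibreRingAt (j ≫ f) z) (fibreRingAt (j ≫ f) z)) ∧
      LocCoh.HasSk 2 (fibreRingAt (j ≫ f) z) (fibreRingAt (j ≫ f) z)) ↔
    ((FibRk 1 f (j z) ∧ EGA4.IsEquidim (fibreRingAt f (j z)) ∧
        LocCoh.HasSk 1 (fibreRingAt f (j z)) (fibreRingAt f (j z))) ∧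
      LocCoh.HasSk 2 (fibreRingAt f (j z)) (fibreRingAt f (j z))) := by
  haveI := isNoetherianRing_fibreRingAt f (j z)
  haveI := isNoetherianRing_fibreRingAt (j ≫ f) z
  obtain ⟨e⟩ := exists_fibreRing_equiv j f z
  exact and_congr (and_congr (fibRk_comp_openImmersion j f 1 z)
    (and_congr (isEquidim_congr e).symm (hasSk_congr e 1).symm)) (hasSk_congr e 2).symm

/-- The points of the flat locus at which the fibre is geometrically normal form an open set. -/
theorem isOpen_flat_geomNormal :
    IsOpen {x : X | (f.stalkMap x).hom.Flat ∧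
      ∀ (K : Type u) [Field K] [Algebra (IsLocalRing.ResidueField (Y.presheaf.stalk (f.base x))) K],
        Module.Finite (IsLocalRing.ResidueField (Y.presheaf.stalk (f.base x))) K →
        ∀ x' : ↥(FBase.bc (f.fiberToSpecResidueField (f.base x)) K),
          (FBase.bcπ (f.fiberToSpecResidueField (f.base x)) K).base x' = f.asFiber x →
          IsDomain ((FBase.bc (f.fiberToSpecResidueField (f.base x)) K).presheaf.stalk x') ∧
            IsIntegrallyClosed ((FBase.bc (f.fiberToSpecResidueField (f.base x)) K).presheaf.stalk x')} := by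
  let U : X.Opens := ⟨_, FlatLocus.isOpen_flat_stalkMap f⟩
  haveI : AlgebraicGeometry.Flat (U.ι ≫ f) := (Flat.iff_flat_stalkMap _).2 fun z => by
    rw [Scheme.Hom.stalkMap_comp]
    exact RingHom.Flat.respectsIso.cancel_right_isIso _ (U.ι.stalkMap z) |>.2 z.2
  have ho := U.ι.isOpenEmbedding.isOpenMap _ (isOpen_fibRk_S2 (U.ι ≫ f))
  convert ho using 1
  ext x
  rw [Set.mem_ofPred_eq, geomNormal_fin_iff f x]
  constructor
  · rintro ⟨hx, h⟩
    exact ⟨⟨x, hx⟩, (normalData_comp f U.ι ⟨x, hx⟩).2 h, rfl⟩
  · rintro ⟨z, hz, rfl⟩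
    exact ⟨z.2, (normalData_comp f U.ι z).1 hz⟩

/-- The locus of the base over which all fibres have a locally constructible property. -/
theorem isLocallyConstructible_forall_fiber [QuasiCompact f] (Q : ∀ y : Y, ↥(f.fiber y) → Prop)
    (h : IsLocallyConstructible {x : X | Q (f.base x) (f.asFiber x)}) :
    IsLocallyConstructible {y : Y | ∀ z : ↥(f.fiber y), Q y z} := by
  rw [show {y : Y | ∀ z : ↥(f.fiber y), Q y z} = (f '' {x : X | Q (f.base x) (f.asFiber x)}ᶜ)ᶜ from ?_]
  · exact CMFlatLib.isLocallyConstructible_compl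
      (f.isLocallyConstructible_image (CMFlatLib.isLocallyConstructible_compl h))
  ext y
  refine ⟨fun hy => ?_, fun hy z => ?_⟩
  · rintro ⟨x, hx, rfl⟩
    exact hx (hy (f.asFiber x))
  · by_contra hne
    exact hy ⟨f.fiberι y z, fun hc => hne ((fib_transfer f y z Q).2.1 hc), (fib_transfer f y z Q).1⟩

theorem isLocallyConstructible_geomNormal_fibres [QuasiCompact f] :
    IsLocallyConstructible {s : Y |
      ∀ (K : Type u) [Field K] [Algebra (IsLocalRing.ResidueField (Y.presheaf.stalk s)) K]
        (x' : ↥(FBase.bc (f.fiberToSpecResidueField s) K)),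
        IsDomain ((FBase.bc (f.fiberToSpecResidueField s) K).presheaf.stalk x') ∧
          IsIntegrallyClosed ((FBase.bc (f.fiberToSpecResidueField s) K).presheaf.stalk x')} := by
  convert isLocallyConstructible_forall_fiber f (fun y z =>
    ∀ (K : Type u) [Field K] [Algebra (IsLocalRing.ResidueField (Y.presheaf.stalk y)) K]
      (x' : ↥(FBase.bc (f.fiberToSpecResidueField y) K)),
      (FBase.bcπ (f.fiberToSpecResidueField y) K).base x' = z →
        (IsDomain ((FBase.bc (f.fiberToSpecResidueField y) K).presheaf.stalk x') ∧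
          IsIntegrallyClosed ((FBase.bc (f.fiberToSpecResidueField y) K).presheaf.stalk x')))
    (isLocallyConstructible_geomNormal f) using 1
  exact Set.ext fun y => ⟨fun h z K _ _ x' _ => h K x', fun h K _ _ x' => h _ K x' rfl⟩

theorem isLocallyConstructible_geomRk_fibres [QuasiCompact f] (k : ℕ) :
    IsLocallyConstructible {s : Y |
      ∀ (K : Type u) [Field K] [Algebra (IsLocalRing.ResidueField (Y.presheaf.stalk s)) K]
        (x' : ↥(FBase.bc (f.fiberToSpecResidueField s) K)),
        LocCoh.HasRk k ((FBase.bc (f.fiberToSpecResidueField s) K).presheaf.stalk x')} := by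
  convert isLocallyConstructible_forall_fiber f (fun y z =>
    ∀ (K : Type u) [Field K] [Algebra (IsLocalRing.ResidueField (Y.presheaf.stalk y)) K]
      (x' : ↥(FBase.bc (f.fiberToSpecResidueField y) K)),
      (FBase.bcπ (f.fiberToSpecResidueField y) K).base x' = z →
        LocCoh.HasRk k ((FBase.bc (f.fiberToSpecResidueField y) K).presheaf.stalk x'))
    (isLocallyConstructible_geomRk f k) using 1
  exact Set.ext fun y => ⟨fun h z K _ _ x' _ => h K x', fun h K _ _ x' => h _ K x' rfl⟩

end Groth.Agent.GeomRk
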