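import Groth.Agent.GeomRk.Point
import Groth.Agent.FibreDepth.AssScheme
import Groth.Agent.FlatLocus.Scheme
import Groth.Agent.S2156

/-!
Openness of geometric reducedness and smoothness of the fibres of a morphism of finite presentation.
-/

set_option autoImplicit false
set_option linter.style.haveILetI false

universe u

open CategoryTheory AlgebraicGeometry IsLocalRing Topology Groth.Agent.FibreDepth

namespace Groth.Agent.GeomRk

attribute [local instance] Algebra.TensorProduct.rightAlgebra

variable {X Y : Scheme.{u}} (f : X ⟶ Y) [LocallyOfFinitePresentation f]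

theorem lfp_fibre (y : Y) : LocallyOfFinitePresentation (f.fiberToSpecResidueField y) :=
  MorphismProperty.pullback_snd _ _ inferInstance

theorem lft_fibre (y : Y) : LocallyOfFiniteType (f.fiberToSpecResidueField y) :=
  MorphismProperty.pullback_snd _ _ inferInstance

/-- At a point of flatness, smoothness of the fibre is smoothness of `f`. -/
theorem fibre_smooth_iff (x : X) (hx : (f.stalkMap x).hom.Flat) :
    ((f.fiberToSpecResidueField (f.base x)).stalkMap (f.asFiber x)).hom.FormallySmooth ↔
      (f.stalkMap x).hom.FormallySmooth :=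
  haveI := lfp_fibre f (f.base x)
  ⟨fun h => (S2156.result f x).2 ⟨hx, h⟩, fun h => ((S2156.result f x).1 h).2⟩

theorem flat_of_specializes {x x' : X} (h : x' ⤳ x) (hx : (f.stalkMap x).hom.Flat) : (f.stalkMap x').hom.Flat :=
  (FlatLocus.isOpen_flat_stalkMap f).stableUnderGeneralization h hx

/-- Geometric reducedness of the fibre through `x`, read on its generisations. -/
theorem geomReduced_fibre_iff (x : X) (hx : (f.stalkMap x).hom.Flat) :
    FBase.IsGeomReducedAt (f.fiberToSpecResidueField (f.base x)) (f.asFiber x) ↔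
      ∀ x' : X, x' ⤳ x → f.base x' = f.base x →
        LocCoh.depth (fibreRingAt f x') (fibreRingAt f x') = 0 →
          ringKrullDim (fibreRingAt f x') = 0 ∧ (f.stalkMap x').hom.FormallySmooth := by
  refine (@geomReduced_iff (IsLocalRing.ResidueField (Y.presheaf.stalk (f.base x))) _ _
    (f.fiberToSpecResidueField (f.base x)) (lft_fibre f _) (f.asFiber x)).trans ?_
  refine (forall_congr' fun z => imp_congr_left specializes_iff_mem_closure).trans ?_
  refine (forall_fiber_iff f (fun y z => LocCoh.depth ((f.fiber y).presheaf.stalk z) ((f.fiber y).presheaf.stalk z) = 0 →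
    ringKrullDim ((f.fiber y).presheaf.stalk z) = 0 ∧
      ((f.fiberToSpecResidueField y).stalkMap z).hom.FormallySmooth) x).trans ?_
  exact forall₃_congr fun x' hsp _ => imp_congr_right fun _ =>
    and_congr_right fun _ => fibre_smooth_iff f x' (flat_of_specializes f hsp hx)

/-- The points of the flat locus at which the fibre is geometrically reduced form an open set. -/
theorem isOpen_geomReduced :
    IsOpen {x : X | (f.stalkMap x).hom.Flat ∧
      FBase.IsGeomReducedAt (f.fiberToSpecResidueField (f.base x)) (f.asFiber x)} := by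
  have hS : {x : X | (f.stalkMap x).hom.Flat ∧
      FBase.IsGeomReducedAt (f.fiberToSpecResidueField (f.base x)) (f.asFiber x)} =
      {x : X | (f.stalkMap x).hom.Flat ∧ ∀ x' : X, x' ⤳ x → f.base x' = f.base x →
        LocCoh.depth (fibreRingAt f x') (fibreRingAt f x') = 0 →
          ringKrullDim (fibreRingAt f x') = 0 ∧ (f.stalkMap x').hom.FormallySmooth} :=
    Set.ext fun x => and_congr_right fun hx => geomReduced_fibre_iff f x hx
  rw [hS]
  refine isOpen_of_models (exists_model_self f) _ fun 𝔐 => ?_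
  let Z := 𝔐.pt '' (𝔐.emb ⁻¹' {x : X | (f.stalkMap x).hom.FormallySmooth}ᶜ)
  have hZ : IsClosed Z := (PrimeSpectrum.isClosedEmbedding_comap_of_surjective _ _ 𝔐.surjective).isClosedMap _
    (f.isOpen_smoothLocus.isClosed_compl.preimage 𝔐.isOpenEmbedding.continuous)
  obtain ⟨U, hU, h⟩ := 𝔐.exists_open_assGood
    (fun d => {r | CodimGE 𝔐.A (Module.annihilator (MvPolynomial (Fin 𝔐.m) 𝔐.A) 𝔐.M) r d} ∩ Zᶜ)
    fun d => (isOpen_codimGE _ d).inter hZ.isOpen_compl
  convert ((FlatLocus.isOpen_flat_stalkMap f).preimage 𝔐.isOpenEmbedding.continuous).inter hU using 1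
  ext q
  refine and_congr_right fun hq => ?_
  refine (𝔐.forall_gen_iff q _).trans (Iff.trans ?_ (h q hq).symm)
  refine forall₂_congr fun z _ => ?_
  obtain ⟨d, t, hd, -, -⟩ := 𝔐.exists_dims z
  have key : ∀ d' : ℕ, ringKrullDim (FibRing 𝔐.A (𝔐.pt z)) = d' →
      (CodimGE 𝔐.A (Module.annihilator (MvPolynomial (Fin 𝔐.m) 𝔐.A) 𝔐.M) (𝔐.pt z) d' ↔
        ringKrullDim (fibreRingAt f (𝔐.emb z)) ≤ 0) := by
    intro d' hd'
    rw [show ringKrullDim (fibreRingAt f (𝔐.emb z)) = _ from 𝔐.supp_eq z]
    exact codimAt_ann_dim_iff (P := MvPolynomial (Fin 𝔐.m) 𝔐.A) 𝔐.M d' hd'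
  have hsm : 𝔐.pt z ∈ Zᶜ ↔ (f.stalkMap (𝔐.emb z)).hom.FormallySmooth := by
    rw [Set.mem_compl_iff, 𝔐.pt_injective.mem_set_image]
    exact not_not
  constructor
  · intro H d' hd' h0
    exact ⟨(key d' hd').2 (H h0).1.le, hsm.2 (H h0).2⟩
  · intro H h0
    obtain ⟨h1, h2⟩ := H d hd h0
    exact ⟨le_antisymm ((key d hd).1 h1) ringKrullDim_nonneg_of_nontrivial, hsm.1 h2⟩

theorem isOpen_geomReduced_of_flat [Flat f] :
    IsOpen {x : X | FBase.IsGeomReducedAt (f.fiberToSpecResidueField (f.base x)) (f.asFiber x)} := by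
  convert isOpen_geomReduced f using 1
  ext x
  exact (and_iff_right (Flat.stalkMap f x)).symm

theorem smooth_iff_forall {k : CommRingCat.{u}} {Z : Scheme.{u}} (g : Z ⟶ Spec k) [LocallyOfFinitePresentation g] :
    Smooth g ↔ ∀ z : Z, (g.stalkMap z).hom.FormallySmooth := by
  rw [← Scheme.Hom.smoothLocus_eq_top_iff]
  exact ⟨fun h z => g.mem_smoothLocus.1 (h ▸ trivial), fun h => top_le_iff.1 fun z _ => h z⟩

theorem isOpen_smooth_fibres [IsProper f] [Flat f] : IsOpen {y : Y | Smooth (f.fiberToSpecResidueField y)} := by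
  haveI := lfp_fibre f
  simp only [fun y => smooth_iff_forall (f.fiberToSpecResidueField y)]
  exact isOpen_forall_fiber _ f.isOpen_smoothLocus
    (fun y z => ((f.fiberToSpecResidueField y).stalkMap z).hom.FormallySmooth)
    fun x => (fibre_smooth_iff f x (Flat.stalkMap f x)).symm

end Groth.Agent.GeomRk
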