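import Groth.Agent.RegHomLib.Geometric
import Groth.Agent.JacobianLib.Adic

/-!
Smoothness at a prime of a finitely generated algebra over a field and regularity after extensions of the field.
-/

set_option autoImplicit false
set_option linter.style.haveILetI false

universe u

open IsLocalRing TensorProduct KaehlerDifferential

namespace Groth.Agent.GeomRk

variable {k C : Type u} [Field k] [CommRing C] [Algebra k C] [Algebra.FiniteType k C]

theorem formallySmooth_iff_adic (p : Ideal C) [p.IsPrime] :
    Algebra.FormallySmooth k (Localization.AtPrime p) ↔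
      CAlgX.IsAdicFormallySmooth k (Localization.AtPrime p) (maximalIdeal (Localization.AtPrime p)) := by
  constructor
  · intro h D _ _ J hJ ψ _
    exact Algebra.FormallySmooth.comp_surjective k (Localization.AtPrime p) J hJ ψ
  · intro h
    obtain ⟨n, π, hπ⟩ := Algebra.FiniteType.iff_quotient_mvPolynomial''.1 ‹Algebra.FiniteType k C›
    let B := MvPolynomial (Fin n) k
    letI : Algebra B C := π.toRingHom.toAlgebra
    haveI : IsScalarTower k B C := .of_algebraMap_eq fun a => (π.commutes a).symm
    let q := p.comap (algebraMap B C)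
    let J := RingHom.ker (algebraMap B C)
    let P := Localization.AtPrime q
    letI : Algebra P (Localization.AtPrime p) := (Localization.localRingHom _ p (algebraMap B C) rfl).toAlgebra
    obtain ⟨h1, hs, hker⟩ := JacobianLib.localization_data (R := k) (B := B) (C := C) hπ p
    haveI := h1
    haveI : IsNoetherianRing P := IsLocalization.isNoetherianRing q.primeCompl P inferInstance
    have hJq : J ≤ q := fun a ha => by
      show algebraMap B C a ∈ p
      rw [RingHom.mem_ker.1 ha]; exact p.zero_mem
    refine (JacobianLib.iff_minor q J hJq hs hker).2 (JacobianLib.exists_minor_of_indep q J hJq fun x hx hD => ?_)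
    have hmap : ∀ w ∈ q • (⊤ : Submodule B Ω[B⁄k]),
        KaehlerDifferential.map k k B P w ∈ maximalIdeal P • (⊤ : Submodule P Ω[P⁄k]) := fun w hw => by
      refine Submodule.smul_induction_on hw (fun a ha z _ => ?_) (fun a b ha hb => by rw [map_add]; exact add_mem ha hb)
      rw [map_smul, ← algebraMap_smul P a]
      exact Submodule.smul_mem_smul ((IsLocalization.AtPrime.to_map_mem_maximal_iff P q a).2 ha) Submodule.mem_top
    have h2 := JacobianLib.mem_of_adic hs h (x := algebraMap B P x)
      (hker.symm ▸ Ideal.mem_map_of_mem _ hx) (by simpa only [KaehlerDifferential.map_D] using hmap _ hD)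
    rwa [hker] at h2

/-- The local rings of `K ⊗ C` over `p` are regular. -/
def RegOver (k : Type u) {C : Type u} [Field k] [CommRing C] [Algebra k C] (p : Ideal C) (K : Type u) [Field K] [Algebra k K] : Prop :=
  ∀ Q : PrimeSpectrum (K ⊗[k] C),
    Q.asIdeal.comap (Algebra.TensorProduct.includeRight : C →ₐ[k] K ⊗[k] C).toRingHom = p →
      IsRegularLocalRing (Localization.AtPrime Q.asIdeal)

theorem regOver_of_formallySmooth (p : Ideal C) [p.IsPrime] (h : Algebra.FormallySmooth k (Localization.AtPrime p))
    (K : Type u) [Field K] [Algebra k K] : RegOver k p K := by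
  intro Q hQ
  let Aq := Localization.AtPrime p
  haveI : IsNoetherianRing C := Algebra.FiniteType.isNoetherianRing k C
  haveI : IsNoetherianRing Aq := IsLocalization.isNoetherianRing p.primeCompl _ inferInstance
  haveI : IsNoetherianRing (K ⊗[k] C) := Algebra.FiniteType.isNoetherianRing K _
  have hgeo := SymGrLib.isGeometricallyRegular_of_isAdicFormallySmooth ((formallySmooth_iff_adic p).1 h)
  letI : Algebra C (K ⊗[k] C) := Algebra.TensorProduct.rightAlgebra
  letI : Algebra (K ⊗[k] C) (K ⊗[k] Aq) :=
    (Algebra.TensorProduct.map (AlgHom.id k K) (IsScalarTower.toAlgHom k C Aq)).toRingHom.toAlgebra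
  let M := Algebra.algebraMapSubmonoid (K ⊗[k] C) p.primeCompl
  haveI : IsLocalization M (K ⊗[k] Aq) := RegHomLib.isLocalization_tensor k K C Aq p.primeCompl
  haveI : IsNoetherianRing (K ⊗[k] Aq) := IsLocalization.isNoetherianRing M _ inferInstance
  haveI := RegHomLib.isRegularRing_tensor_of_geometricallyRegular hgeo K
  have hdisj : Disjoint (M : Set (K ⊗[k] C)) (Q.asIdeal : Set (K ⊗[k] C)) :=
    Set.disjoint_left.2 fun x ⟨s, hs, e⟩ hx => by
      subst e
      exact hs (hQ ▸ hx)
  let N := Q.asIdeal.map (algebraMap (K ⊗[k] C) (K ⊗[k] Aq))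
  haveI hN : N.IsPrime := IsLocalization.isPrime_of_isPrime_disjoint M _ Q.asIdeal Q.isPrime hdisj
  have h2 : IsRegularLocalRing (Localization.AtPrime N) := IsRegularRing.isRegularLocalRing_localization _
  have h1 := (RegLocLib.mem_regLocus_iff_of_isLocalization M (⟨N, hN⟩ : PrimeSpectrum (K ⊗[k] Aq))).1 h2
  have h3 : PrimeSpectrum.comap (algebraMap (K ⊗[k] C) (K ⊗[k] Aq)) ⟨N, hN⟩ = Q :=
    PrimeSpectrum.ext (IsLocalization.under_map_of_isPrime_disjoint M _ Q.isPrime hdisj)
  rw [h3] at h1
  exact h1

theorem formallySmooth_of_regOver (p : Ideal C) [p.IsPrime]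
    (h : ∀ (K : Type u) [Field K] [Algebra k K], Module.Finite k K → RegOver k p K) :
    Algebra.FormallySmooth k (Localization.AtPrime p) := by
  let Aq := Localization.AtPrime p
  haveI : IsNoetherianRing C := Algebra.FiniteType.isNoetherianRing k C
  haveI : IsNoetherianRing Aq := IsLocalization.isNoetherianRing p.primeCompl _ inferInstance
  rw [formallySmooth_iff_adic]
  obtain ⟨e, _⟩ := ExpChar.exists k
  rw [S4573.result e]
  intro K _ _ hK _
  letI : Algebra C (K ⊗[k] C) := Algebra.TensorProduct.rightAlgebra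
  letI : Algebra (K ⊗[k] C) (K ⊗[k] Aq) :=
    (Algebra.TensorProduct.map (AlgHom.id k K) (IsScalarTower.toAlgHom k C Aq)).toRingHom.toAlgebra
  let M := Algebra.algebraMapSubmonoid (K ⊗[k] C) p.primeCompl
  haveI : IsLocalization M (K ⊗[k] Aq) := RegHomLib.isLocalization_tensor k K C Aq p.primeCompl
  haveI : IsNoetherianRing (K ⊗[k] C) := Algebra.FiniteType.isNoetherianRing K _
  haveI : IsNoetherianRing (K ⊗[k] Aq) := IsLocalization.isNoetherianRing M _ inferInstance
  refine RegComplLib.isRegularRing_of_isMaximal _ fun N hN => ?_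
  have hint : (Algebra.TensorProduct.includeRight : Aq →ₐ[k] K ⊗[k] Aq).toRingHom.IsIntegral := by
    letI : Algebra Aq (K ⊗[k] Aq) :=
      (Algebra.TensorProduct.includeRight : Aq →ₐ[k] K ⊗[k] Aq).toRingHom.toAlgebra
    let e' : Aq ⊗[k] K ≃ₐ[Aq] K ⊗[k] Aq :=
      AlgEquiv.ofRingEquiv (f := (Algebra.TensorProduct.comm k Aq K).toRingEquiv) fun a => by
        show Algebra.TensorProduct.comm k Aq K (a ⊗ₜ[k] (1 : K)) = (1 : K) ⊗ₜ[k] a
        simp
    haveI : Module.Finite Aq (K ⊗[k] Aq) := Module.Finite.equiv e'.toLinearEquiv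
    exact algebraMap_isIntegral_iff.2 inferInstance
  have hm : N.comap (Algebra.TensorProduct.includeRight : Aq →ₐ[k] K ⊗[k] Aq).toRingHom = maximalIdeal Aq :=
    IsLocalRing.eq_maximalIdeal (Ideal.isMaximal_comap_of_isIntegral_of_isMaximal' _ hint N)
  refine (RegLocLib.mem_regLocus_iff_of_isLocalization M (⟨N, hN.isPrime⟩ : PrimeSpectrum (K ⊗[k] Aq))).2 ?_
  refine h K hK (PrimeSpectrum.comap (algebraMap (K ⊗[k] C) (K ⊗[k] Aq)) ⟨N, hN.isPrime⟩) ?_
  show (N.comap _).comap _ = p
  rw [Ideal.comap_comap, show (algebraMap (K ⊗[k] C) (K ⊗[k] Aq)).comp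
      (Algebra.TensorProduct.includeRight : C →ₐ[k] K ⊗[k] C).toRingHom =
      (Algebra.TensorProduct.includeRight : Aq →ₐ[k] K ⊗[k] Aq).toRingHom.comp (algebraMap C Aq) from
    RingHom.ext fun c => by simp [RingHom.algebraMap_toAlgebra], ← Ideal.comap_comap, hm]
  exact IsLocalization.AtPrime.comap_maximalIdeal _ p

end Groth.Agent.GeomRk
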