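import Groth.Agent.GeomRk.Alg
import Groth.Prelude.Def_FDesc

/-!
Affine charts for the extensions of the ground field of a scheme locally of finite type over a field.
-/

set_option autoImplicit false
set_option linter.style.haveILetI false

universe u

open CategoryTheory CategoryTheory.Limits AlgebraicGeometry TensorProduct

namespace Groth.Agent.GeomRk

variable {k : Type u} [Field k] {X : Scheme.{u}} (f : X ⟶ Spec (CommRingCat.of k))

/-- An affine open piece of a scheme over `k`. -/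
structure Chart where
  C : Type u
  [commC : CommRing C]
  [algC : Algebra k C]
  [ftC : Algebra.FiniteType k C]
  j : Spec (CommRingCat.of C) ⟶ X
  [isOpenImm : IsOpenImmersion j]
  w : j ≫ f = Spec.map (CommRingCat.ofHom (algebraMap k C))

attribute [instance] Chart.commC Chart.algC Chart.ftC Chart.isOpenImm

theorem exists_chart [LocallyOfFiniteType f] (x : X) : ∃ (c : Chart f) (q : PrimeSpectrum c.C), c.j q = x := by
  obtain ⟨W, hW, hxW, -⟩ := exists_isAffineOpen_mem_and_subset (X := X) (x := x) (U := ⊤) trivial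
  let φ := Spec.preimage (hW.fromSpec ≫ f)
  letI : Algebra k Γ(X, W) := φ.hom.toAlgebra
  have hφ : Spec.map φ = hW.fromSpec ≫ f := Spec.map_preimage _
  haveI : LocallyOfFiniteType (Spec.map φ) := hφ ▸ inferInstance
  haveI : Algebra.FiniteType k Γ(X, W) :=
    RingHom.finiteType_algebraMap.1 ((HasRingHomProperty.Spec_iff (P := @LocallyOfFiniteType)).1 this)
  exact ⟨{ C := Γ(X, W), j := hW.fromSpec, w := hφ.symm }, hW.primeIdealOf ⟨x, hxW⟩, hW.fromSpec_primeIdealOf _⟩

variable {f} (c : Chart f)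

namespace Chart

theorem specializes_iff (p q : PrimeSpectrum c.C) : c.j p ⤳ c.j q ↔ p.asIdeal ≤ q.asIdeal :=
  c.j.isOpenEmbedding.toIsEmbedding.isInducing.specializes_iff.trans (PrimeSpectrum.le_iff_specializes p q).symm

theorem exists_le (q : PrimeSpectrum c.C) {z : X} (h : z ⤳ c.j q) : ∃ p : PrimeSpectrum c.C, p.asIdeal ≤ q.asIdeal ∧ c.j p = z := by
  obtain ⟨p, rfl⟩ := h.mem_open c.j.isOpenEmbedding.isOpen_range ⟨q, rfl⟩
  exact ⟨p, (c.specializes_iff p q).1 h, rfl⟩

/-- The local ring at a point of the chart. -/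
theorem exists_stalk_equiv (p : PrimeSpectrum c.C) :
    Nonempty (X.presheaf.stalk (c.j p) ≃+* Localization.AtPrime p.asIdeal) :=
  ⟨((asIso (c.j.stalkMap p)) ≪≫ (Spec.stalkIso (CommRingCat.of c.C) p)).commRingCatIsoToRingEquiv⟩

theorem formallySmooth_iff (p : PrimeSpectrum c.C) :
    (f.stalkMap (c.j p)).hom.FormallySmooth ↔ Algebra.FormallySmooth k (Localization.AtPrime p.asIdeal) := by
  let φ := CommRingCat.ofHom (algebraMap k c.C)
  have h1 : (f.stalkMap (c.j p)).hom.FormallySmooth ↔ ((c.j ≫ f).stalkMap p).hom.FormallySmooth := by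
    rw [Scheme.Hom.stalkMap_comp]
    exact (RingHom.FormallySmooth.respectsIso.cancel_right_isIso (f.stalkMap (c.j p)) (c.j.stalkMap p)).symm
  rw [h1]
  have h2 : ((c.j ≫ f).stalkMap p).hom.FormallySmooth ↔ ((Spec.map φ).stalkMap p).hom.FormallySmooth := by
    rw [c.w]
  rw [h2, RingHom.FormallySmooth.respectsIso.arrow_mk_iso_iff (Scheme.arrowStalkMapSpecIso φ p)]
  let p₀ := p.asIdeal.comap (algebraMap k c.C)
  haveI : p.asIdeal.LiesOver p₀ := ⟨rfl⟩
  letI := Localization.AtPrime.algebraOfLiesOver p₀ p.asIdeal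
  show (Localization.localRingHom p₀ p.asIdeal (algebraMap k c.C) rfl).FormallySmooth ↔ _
  rw [show Localization.localRingHom p₀ p.asIdeal (algebraMap k c.C) rfl =
    algebraMap (Localization.AtPrime p₀) (Localization.AtPrime p.asIdeal) from rfl,
    RingHom.formallySmooth_algebraMap]
  exact Algebra.FormallySmooth.iff_restrictScalars.symm

variable (K : Type u) [Field K] [Algebra k K]

/-- The base change of the chart. -/
noncomputable def preMap : Spec (CommRingCat.of (K ⊗[k] c.C)) ⟶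
    pullback c.j (pullback.fst f (Spec.map (CommRingCat.ofHom (algebraMap k K)))) :=
  Spec.map (CommRingCat.ofHom (Algebra.TensorProduct.comm k c.C K).toRingEquiv.toRingHom) ≫
    (pullbackSpecIso k c.C K).inv ≫ (pullback.congrHom c.w rfl).inv ≫
      (pullbackRightPullbackFstIso f (Spec.map (CommRingCat.ofHom (algebraMap k K))) c.j).inv

instance : IsIso (c.preMap K) := by
  haveI : IsIso (CommRingCat.ofHom (Algebra.TensorProduct.comm k c.C K).toRingEquiv.toRingHom) :=
    inferInstanceAs (IsIso (Algebra.TensorProduct.comm k c.C K).toRingEquiv.toCommRingCatIso.hom)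
  unfold preMap
  exact inferInstance

/-- The chart of the extension. -/
noncomputable def bcMap : Spec (CommRingCat.of (K ⊗[k] c.C)) ⟶ FBase.bc f K :=
  c.preMap K ≫ pullback.snd c.j (pullback.fst f (Spec.map (CommRingCat.ofHom (algebraMap k K))))

instance : IsOpenImmersion (c.bcMap K) := by
  haveI : IsOpenImmersion (pullback.snd c.j (pullback.fst f (Spec.map (CommRingCat.ofHom (algebraMap k K))))) :=
    MorphismProperty.pullback_snd _ _ c.isOpenImm
  exact IsOpenImmersion.comp (c.preMap K)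
    (pullback.snd c.j (pullback.fst f (Spec.map (CommRingCat.ofHom (algebraMap k K)))))

theorem bcMap_fst : c.bcMap K ≫ FBase.bcπ f K =
    Spec.map (CommRingCat.ofHom (Algebra.TensorProduct.includeRight : c.C →ₐ[k] K ⊗[k] c.C).toRingHom) ≫ c.j := by
  show ((_ ≫ _ ≫ _ ≫ _) ≫ pullback.snd _ _) ≫ pullback.fst f _ = _
  simp only [Category.assoc]
  rw [← pullback.condition, pullbackRightPullbackFstIso_inv_fst_assoc, pullback.congrHom_inv,
    pullback.lift_fst_assoc, Category.comp_id, pullbackSpecIso_inv_fst_assoc, ← Category.assoc,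
    ← Spec.map_comp]
  congr 2

theorem bcπ_bcMap (Q : PrimeSpectrum (K ⊗[k] c.C)) :
    (FBase.bcπ f K).base (c.bcMap K Q) =
      c.j (PrimeSpectrum.comap (Algebra.TensorProduct.includeRight : c.C →ₐ[k] K ⊗[k] c.C).toRingHom Q) :=
  congrArg (fun g : Spec (CommRingCat.of (K ⊗[k] c.C)) ⟶ X => g.base Q) (c.bcMap_fst K)

theorem exists_bc_point (q : PrimeSpectrum c.C) (x' : ↥(FBase.bc f K)) (h : (FBase.bcπ f K).base x' = c.j q) :
    ∃ Q : PrimeSpectrum (K ⊗[k] c.C), Over k q.asIdeal Q ∧ c.bcMap K Q = x' := by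
  have hr : x' ∈ Set.range (pullback.snd c.j (pullback.fst f (Spec.map (CommRingCat.ofHom (algebraMap k K))))) := by
    rw [Scheme.Pullback.range_snd]
    exact ⟨q, h.symm⟩
  obtain ⟨z, rfl⟩ := hr
  obtain ⟨Q, hQ⟩ : ∃ Q, c.preMap K Q = z :=
    ⟨(inv (c.preMap K)) z, by rw [← Scheme.Hom.comp_apply, IsIso.inv_hom_id]; rfl⟩
  have hb : c.bcMap K Q = pullback.snd c.j (pullback.fst f (Spec.map (CommRingCat.ofHom (algebraMap k K)))) z := by
    rw [← hQ]
    rfl
  refine ⟨Q, ?_, hb⟩
  rw [← hb, c.bcπ_bcMap K Q] at h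
  exact congrArg PrimeSpectrum.asIdeal (c.j.isOpenEmbedding.injective h)

theorem exists_bc_stalk_equiv (Q : PrimeSpectrum (K ⊗[k] c.C)) :
    Nonempty ((FBase.bc f K).presheaf.stalk (c.bcMap K Q) ≃+* Localization.AtPrime Q.asIdeal) :=
  ⟨((asIso ((c.bcMap K).stalkMap Q)) ≪≫
    (Spec.stalkIso (CommRingCat.of (K ⊗[k] c.C)) Q)).commRingCatIsoToRingEquiv⟩

theorem forall_over_iff (q : PrimeSpectrum c.C) (P : ∀ (R : Type u) [CommRing R], Prop)
    (hP : ∀ (R S : Type u) [CommRing R] [CommRing S], (R ≃+* S) → P R → P S) :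
    (∀ x' : ↥(FBase.bc f K), (FBase.bcπ f K).base x' = c.j q → P ((FBase.bc f K).presheaf.stalk x')) ↔
      ∀ Q : PrimeSpectrum (K ⊗[k] c.C), Over k q.asIdeal Q → P (Localization.AtPrime Q.asIdeal) := by
  constructor
  · intro h Q hQ
    obtain ⟨e⟩ := c.exists_bc_stalk_equiv K Q
    refine hP _ _ e (h _ ((c.bcπ_bcMap K Q).trans (congrArg c.j (PrimeSpectrum.ext hQ))))
  · intro h x' hx'
    obtain ⟨Q, hQ, rfl⟩ := c.exists_bc_point K q x' hx'
    obtain ⟨e⟩ := c.exists_bc_stalk_equiv K Q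
    exact hP _ _ e.symm (h Q hQ)

end Chart

variable (f) [LocallyOfFiniteType f]

/-- Geometric `R_n` at a point, through finite extensions. -/
theorem geomRk_iff (n : ℕ) (x : X) :
    (∀ (K : Type u) [Field K] [Algebra k K], Module.Finite k K → ∀ x' : ↥(FBase.bc f K),
        (FBase.bcπ f K).base x' = x → LocCoh.HasRk n ((FBase.bc f K).presheaf.stalk x')) ↔
      ∀ z, z ⤳ x → ringKrullDim (X.presheaf.stalk z) ≤ (n : WithBot ℕ∞) → (f.stalkMap z).hom.FormallySmooth := by
  obtain ⟨c, q, rfl⟩ := exists_chart f x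
  have hP : ∀ (R S : Type u) [CommRing R] [CommRing S], (R ≃+* S) → LocCoh.HasRk n R → LocCoh.HasRk n S :=
    fun R S _ _ e => hasRk_of_ringEquiv e n
  have key : ∀ p : PrimeSpectrum c.C,
      ringKrullDim (X.presheaf.stalk (c.j p)) ≤ (n : WithBot ℕ∞) ↔ p.asIdeal.height ≤ n := fun p => by
    obtain ⟨e⟩ := c.exists_stalk_equiv p
    rw [ringKrullDim_eq_of_ringEquiv e, IsLocalization.AtPrime.ringKrullDim_eq_height p.asIdeal]
    exact WithBot.coe_le_coe
  have hK : (∀ (K : Type u) [Field K] [Algebra k K], Module.Finite k K → ∀ x' : ↥(FBase.bc f K),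
      (FBase.bcπ f K).base x' = c.j q → LocCoh.HasRk n ((FBase.bc f K).presheaf.stalk x')) ↔
      GeomRkAt k n q.asIdeal :=
    ⟨fun h K _ _ hf => (c.forall_over_iff K q (fun R _ => LocCoh.HasRk n R) hP).1 (h K hf),
      fun h K _ _ hf => (c.forall_over_iff K q (fun R _ => LocCoh.HasRk n R) hP).2 (h K hf)⟩
  refine (hK.trans (geomRkAt_iff k n q.asIdeal)).trans ?_
  constructor
  · intro h z hz hd
    obtain ⟨p, hp, rfl⟩ := c.exists_le q hz
    exact (c.formallySmooth_iff p).2 (h p hp ((key p).1 hd))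
  · intro h p hp hd
    exact (c.formallySmooth_iff p).1 (h _ ((c.specializes_iff p q).2 hp) ((key p).2 hd))

/-- Geometric reducedness at a point. -/
theorem geomReduced_iff (x : X) :
    FBase.IsGeomReducedAt f x ↔ ∀ z, z ⤳ x →
      LocCoh.depth (X.presheaf.stalk z) (X.presheaf.stalk z) = 0 →
        ringKrullDim (X.presheaf.stalk z) = 0 ∧ (f.stalkMap z).hom.FormallySmooth := by
  obtain ⟨c, q, rfl⟩ := exists_chart f x
  have hP : ∀ (R S : Type u) [CommRing R] [CommRing S], (R ≃+* S) → IsReduced R → IsReduced S :=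
    fun R S _ _ e _ => isReduced_of_ringEquiv e
  haveI : IsNoetherianRing c.C := Algebra.FiniteType.isNoetherianRing k c.C
  haveI : IsLocallyNoetherian X := LocallyOfFiniteType.isLocallyNoetherian f
  have key : ∀ p : PrimeSpectrum c.C,
      (LocCoh.depth (X.presheaf.stalk (c.j p)) (X.presheaf.stalk (c.j p)) = 0 ↔
        LocCoh.depth (Localization.AtPrime p.asIdeal) (Localization.AtPrime p.asIdeal) = 0) ∧
      (ringKrullDim (X.presheaf.stalk (c.j p)) = 0 ↔ p.asIdeal.height = 0) := fun p => by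
    obtain ⟨e⟩ := c.exists_stalk_equiv p
    haveI : IsNoetherianRing (Localization.AtPrime p.asIdeal) :=
      IsLocalization.isNoetherianRing p.asIdeal.primeCompl _ inferInstance
    refine ⟨by rw [← depth_congr_ringEquiv e], ?_⟩
    rw [ringKrullDim_eq_of_ringEquiv e, IsLocalization.AtPrime.ringKrullDim_eq_height p.asIdeal]
    exact WithBot.coe_eq_coe
  have hK : FBase.IsGeomReducedAt f (c.j q) ↔ GeomRedAt k q.asIdeal :=
    ⟨fun h K _ _ => (c.forall_over_iff K q (fun R _ => IsReduced R) hP).1 (h K),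
      fun h K _ _ => (c.forall_over_iff K q (fun R _ => IsReduced R) hP).2 (h K)⟩
  refine (hK.trans (geomRedAt_iff k q.asIdeal)).trans ?_
  constructor
  · intro h z hz hd
    obtain ⟨p, hp, rfl⟩ := c.exists_le q hz
    obtain ⟨h1, h2⟩ := h p hp ((key p).1.1 hd)
    exact ⟨(key p).2.2 h1, (c.formallySmooth_iff p).2 h2⟩
  · intro h p hp hd
    obtain ⟨h1, h2⟩ := h _ ((c.specializes_iff p q).2 hp) ((key p).1.2 hd)
    exact ⟨(key p).2.1 h1, (c.formallySmooth_iff p).1 h2⟩

end Groth.Agent.GeomRk
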