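import Groth.Agent.GeomRk.Normal
import Groth.Agent.GorLib.Faltings

/-!
Geometric `R_k` and geometric normality through arbitrary extensions of the ground field.
-/

set_option autoImplicit false
set_option linter.style.haveILetI false

universe u

open CategoryTheory CategoryTheory.Limits AlgebraicGeometry IsLocalRing TensorProduct Topology

namespace Groth.Agent.GeomRk

theorem depth_eq_dim_of_regular (R : Type u) [CommRing R] [IsRegularLocalRing R] :
    ((LocCoh.depth R R : ℕ∞) : WithBot ℕ∞) = ringKrullDim R := by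
  haveI : LocCoh.IsCohenMacaulayLocalRing R := GorLib.isCohenMacaulay R (GorLib.gorensteinLocal_of_regular R)
  rw [← Module.supportDim_self_eq_ringKrullDim (R := R)]
  exact (LocCoh.IsCohenMacaulayLocalRing.supportDim_eq_depth).symm

section Alg

variable (k : Type u) {C : Type u} [Field k] [CommRing C] [Algebra k C] [Algebra.FiniteType k C]

attribute [local instance] Algebra.TensorProduct.rightAlgebra

theorem height_le_over (K : Type u) [Field K] [Algebra k K] (q : Ideal C) [q.IsPrime]
    (Q : PrimeSpectrum (K ⊗[k] C)) (hQ : Over k q Q) : q.height ≤ Q.asIdeal.height := by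
  haveI : IsNoetherianRing C := Algebra.FiniteType.isNoetherianRing k C
  haveI : IsNoetherianRing (K ⊗[k] C) := Algebra.FiniteType.isNoetherianRing K _
  haveI := flat_right (C := C) (k := k) K
  haveI : Q.asIdeal.LiesOver q := ⟨hQ.symm⟩
  rw [Ideal.height_eq_height_add_of_liesOver_of_hasGoingDown q Q.asIdeal]
  exact le_self_add

theorem hasRk_over_any (n : ℕ) (q : Ideal C) [q.IsPrime]
    (h : ∀ p : PrimeSpectrum C, p.asIdeal ≤ q → p.asIdeal.height ≤ n →
      Algebra.FormallySmooth k (Localization.AtPrime p.asIdeal))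
    (K : Type u) [Field K] [Algebra k K] (Q : PrimeSpectrum (K ⊗[k] C)) (hQ : Over k q Q) :
    LocCoh.HasRk n (Localization.AtPrime Q.asIdeal) := by
  rw [hasRk_localization_iff n Q.asIdeal]
  intro Q' hle hht
  let p : PrimeSpectrum C :=
    PrimeSpectrum.comap (Algebra.TensorProduct.includeRight : C →ₐ[k] K ⊗[k] C).toRingHom Q'
  exact regOver_of_formallySmooth p.asIdeal
    (h p ((Ideal.comap_mono hle).trans hQ.le) ((height_le_over k K p.asIdeal Q' rfl).trans hht)) K Q' rfl

theorem hasSk_two_over_any (q : Ideal C) [q.IsPrime]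
    (h : ∀ p : PrimeSpectrum C, p.asIdeal ≤ q → p.asIdeal.height ≤ 1 →
      Algebra.FormallySmooth k (Localization.AtPrime p.asIdeal))
    (hS : LocCoh.HasSk 2 (Localization.AtPrime q) (Localization.AtPrime q))
    (K : Type u) [Field K] [Algebra k K] (Q : PrimeSpectrum (K ⊗[k] C)) (hQ : Over k q Q) :
    LocCoh.HasSk 2 (Localization.AtPrime Q.asIdeal) (Localization.AtPrime Q.asIdeal) := by
  haveI : IsNoetherianRing C := Algebra.FiniteType.isNoetherianRing k C
  haveI : IsNoetherianRing (K ⊗[k] C) := Algebra.FiniteType.isNoetherianRing K _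
  refine hasSk_localization Q.asIdeal.primeCompl _ 2 fun P _ => ?_
  let Q' : PrimeSpectrum (K ⊗[k] C) := ⟨P.under (K ⊗[k] C), inferInstance⟩
  let p : PrimeSpectrum C :=
    PrimeSpectrum.comap (Algebra.TensorProduct.includeRight : C →ₐ[k] K ⊗[k] C).toRingHom Q'
  have hle : p.asIdeal ≤ q := by
    intro x hx
    rw [← hQ]
    show (Algebra.TensorProduct.includeRight : C →ₐ[k] K ⊗[k] C) x ∈ Q.asIdeal
    by_contra hxQ
    exact Ideal.IsPrime.ne_top inferInstance (Ideal.eq_top_of_isUnit_mem P hx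
      (IsLocalization.map_units _ (⟨_, hxQ⟩ : Q.asIdeal.primeCompl)))
  show min _ (Q'.asIdeal.height : WithBot ℕ∞) ≤
    ((LocCoh.depth (Localization.AtPrime Q'.asIdeal) (Localization.AtPrime Q'.asIdeal) : ℕ∞) : WithBot ℕ∞)
  by_cases hp : p.asIdeal.height ≤ 1
  · haveI := regOver_of_formallySmooth p.asIdeal (h p hle hp) K Q' rfl
    rw [depth_eq_dim_of_regular, IsLocalization.AtPrime.ringKrullDim_eq_height Q'.asIdeal]
    exact min_le_right _ _
  · have h' := hasSk_apply q.primeCompl _ 2 hS p.asIdeal (Set.disjoint_left.2 fun x hx hx' => hx (hle hx'))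
    have h2 : (2 : ℕ∞) ≤ p.asIdeal.height := by
      have := Order.add_one_le_of_lt (not_le.1 hp)
      exact le_trans (le_of_eq (by norm_num)) this
    rw [min_eq_left (show ((2 : ℕ) : WithBot ℕ∞) ≤ (p.asIdeal.height : WithBot ℕ∞) from WithBot.coe_le_coe.2 h2),
      show ((2 : ℕ) : WithBot ℕ∞) = (((2 : ℕ) : ℕ∞) : WithBot ℕ∞) from rfl, WithBot.coe_le_coe] at h'
    exact (min_le_left _ _).trans (WithBot.coe_le_coe.2 (natCast_le_depth_over k K p.asIdeal Q' rfl 2 h'))

end Alg

section Point

variable {k : Type u} [Field k] {X : Scheme.{u}} (f : X ⟶ Spec (CommRingCat.of k)) [LocallyOfFiniteType f]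

theorem fs_of_cond (n : ℕ) (c : Chart f) (q : PrimeSpectrum c.C)
    (h : ∀ z, z ⤳ c.j q → ringKrullDim (X.presheaf.stalk z) ≤ (n : WithBot ℕ∞) → (f.stalkMap z).hom.FormallySmooth) :
    ∀ p : PrimeSpectrum c.C, p.asIdeal ≤ q.asIdeal → p.asIdeal.height ≤ n →
      Algebra.FormallySmooth k (Localization.AtPrime p.asIdeal) := by
  intro p hp hht
  refine (c.formallySmooth_iff p).1 (h _ ((c.specializes_iff p q).2 hp) ?_)
  obtain ⟨e⟩ := c.exists_stalk_equiv p
  rw [ringKrullDim_eq_of_ringEquiv e, IsLocalization.AtPrime.ringKrullDim_eq_height p.asIdeal]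
  exact WithBot.coe_le_coe.2 hht

/-- Geometric `R_n` at a point, through all extensions. -/
theorem geomRk_iff_any (n : ℕ) (x : X) :
    (∀ (K : Type u) [Field K] [Algebra k K] (x' : ↥(FBase.bc f K)), (FBase.bcπ f K).base x' = x →
        LocCoh.HasRk n ((FBase.bc f K).presheaf.stalk x')) ↔
      ∀ z, z ⤳ x → ringKrullDim (X.presheaf.stalk z) ≤ (n : WithBot ℕ∞) → (f.stalkMap z).hom.FormallySmooth := by
  constructor
  · exact fun h => (geomRk_iff f n x).1 fun K _ _ _ => h K
  · obtain ⟨c, q, rfl⟩ := exists_chart f x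
    intro h K _ _
    exact (c.forall_over_iff K q (fun R _ => LocCoh.HasRk n R) fun R S _ _ e => hasRk_of_ringEquiv e n).2
      fun Q hQ => hasRk_over_any k n q.asIdeal (fs_of_cond f n c q h) K Q hQ

/-- Geometric normality at a point, through all extensions. -/
theorem geomNormal_iff_any (x : X) :
    (∀ (K : Type u) [Field K] [Algebra k K] (x' : ↥(FBase.bc f K)), (FBase.bcπ f K).base x' = x →
        IsDomain ((FBase.bc f K).presheaf.stalk x') ∧ IsIntegrallyClosed ((FBase.bc f K).presheaf.stalk x')) ↔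
      (∀ z, z ⤳ x → ringKrullDim (X.presheaf.stalk z) ≤ ((1 : ℕ) : WithBot ℕ∞) →
          (f.stalkMap z).hom.FormallySmooth) ∧
        LocCoh.HasSk 2 (X.presheaf.stalk x) (X.presheaf.stalk x) := by
  haveI : IsLocallyNoetherian X := LocallyOfFiniteType.isLocallyNoetherian f
  constructor
  · intro h
    obtain ⟨⟨h1, -, -⟩, h2⟩ := (geomNormal_iff f x).1 fun K _ _ _ => h K
    exact ⟨(geomRk_iff f 1 x).1 h1, h2⟩
  · obtain ⟨c, q, rfl⟩ := exists_chart f x
    haveI : IsNoetherianRing c.C := Algebra.FiniteType.isNoetherianRing k c.C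
    obtain ⟨e⟩ := c.exists_stalk_equiv q
    rintro ⟨h1, h2⟩ K _ _
    refine (c.forall_over_iff K q (fun R _ => IsDomain R ∧ IsIntegrallyClosed R) fun R S _ _ e ⟨_, _⟩ =>
      ⟨e.symm.toMulEquiv.isDomain, IsIntegrallyClosed.of_equiv e⟩).2 fun Q hQ => ?_
    haveI : IsNoetherianRing (K ⊗[k] c.C) := Algebra.FiniteType.isNoetherianRing K _
    haveI : IsNoetherianRing (Localization.AtPrime Q.asIdeal) :=
      IsLocalization.isNoetherianRing Q.asIdeal.primeCompl _ inferInstance
    exact normal_of_R1_S2_local (hasRk_over_any k 1 q.asIdeal (fs_of_cond f 1 c q h1) K Q hQ)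
      (hasSk_two_over_any k q.asIdeal (fs_of_cond f 1 c q h1) (hasSk_of_ringEquiv e 2 h2) K Q hQ)

end Point

end Groth.Agent.GeomRk
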