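import Groth.Agent.GeomRk.Field
import Groth.Agent.Depth.FlatLocal
import Groth.Agent.CMFlatLib.Chart

/-!
Serre's condition `R_k` and reducedness after extensions of the ground field, read on the smooth primes.
-/

set_option autoImplicit false
set_option linter.style.haveILetI false

universe u

open IsLocalRing TensorProduct

namespace Groth.Agent.GeomRk

section General

variable {R : Type u} [CommRing R]

theorem regular_of_isLocalization_iff {S : Type u} [CommRing S] [Algebra R S] (M : Submonoid R) [IsLocalization M S]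
    (P : Ideal S) [P.IsPrime] :
    IsRegularLocalRing (Localization.AtPrime P) ↔ IsRegularLocalRing (Localization.AtPrime (P.under R)) :=
  RegLocLib.mem_regLocus_iff_of_isLocalization M (⟨P, inferInstance⟩ : PrimeSpectrum S)

theorem hasRk_localization_iff (n : ℕ) (Q : Ideal R) [Q.IsPrime] (S : Type u) [CommRing S] [Algebra R S]
    [IsLocalization.AtPrime S Q] :
    LocCoh.HasRk n S ↔
      ∀ Q' : PrimeSpectrum R, Q'.asIdeal ≤ Q → Q'.asIdeal.height ≤ n →
        IsRegularLocalRing (Localization.AtPrime Q'.asIdeal) := by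
  constructor
  · intro h Q' hle hht
    have hd : Disjoint (Q.primeCompl : Set R) Q'.asIdeal := Set.disjoint_left.2 fun x hx hx' => hx (hle hx')
    haveI := IsLocalization.isPrime_of_isPrime_disjoint Q.primeCompl S Q'.asIdeal Q'.isPrime hd
    have hu := IsLocalization.under_map_of_isPrime_disjoint Q.primeCompl S Q'.isPrime hd
    have h1 := h (Q'.asIdeal.map (algebraMap R S)) (by rw [← IsLocalization.height_under Q.primeCompl, hu]; exact hht)
    have h2 := (RegLocLib.mem_regLocus_iff_of_isLocalization Q.primeCompl
      (⟨Q'.asIdeal.map (algebraMap R S), inferInstance⟩ : PrimeSpectrum S)).1 h1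
    rwa [show PrimeSpectrum.comap (algebraMap R S) ⟨Q'.asIdeal.map (algebraMap R S), inferInstance⟩ = Q' from
      PrimeSpectrum.ext hu] at h2
  · intro h P _ hht
    rw [regular_of_isLocalization_iff Q.primeCompl P]
    refine h ⟨P.under R, inferInstance⟩ (fun x hx => ?_) (by rw [IsLocalization.height_under Q.primeCompl]; exact hht)
    by_contra hxQ
    exact Ideal.IsPrime.ne_top inferInstance
      (Ideal.eq_top_of_isUnit_mem P hx (IsLocalization.map_units S (⟨x, hxQ⟩ : Q.primeCompl)))

theorem isLocalization_bot {S : Type u} [CommRing S] (e : R ≃+* S) :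
    letI : Algebra R S := e.toRingHom.toAlgebra
    IsLocalization (⊥ : Submonoid R) S := by
  letI : Algebra R S := e.toRingHom.toAlgebra
  haveI := IsLocalization.self (R := R) (M := ⊥) bot_le
  exact IsLocalization.isLocalization_of_algEquiv (⊥ : Submonoid R) (AlgEquiv.ofRingEquiv (f := e) fun _ => rfl)

theorem hasRk_of_ringEquiv {S : Type u} [CommRing S] (e : R ≃+* S) (n : ℕ) (h : LocCoh.HasRk n R) :
    LocCoh.HasRk n S := by
  letI : Algebra R S := e.toRingHom.toAlgebra
  haveI : IsLocalization (⊥ : Submonoid R) S := isLocalization_bot e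
  intro P _ hht
  rw [regular_of_isLocalization_iff (⊥ : Submonoid R) P]
  exact h _ (by rw [IsLocalization.height_under (⊥ : Submonoid R)]; exact hht)

theorem hasRk_congr {S : Type u} [CommRing S] (e : R ≃+* S) (n : ℕ) : LocCoh.HasRk n R ↔ LocCoh.HasRk n S :=
  ⟨hasRk_of_ringEquiv e n, hasRk_of_ringEquiv e.symm n⟩

/-- A Noetherian ring is reduced when its localizations at associated primes are fields. -/
theorem isReduced_of_localizations [IsNoetherianRing R]
    (h : ∀ (P : Ideal R) [P.IsPrime], LocCoh.depth (Localization.AtPrime P) (Localization.AtPrime P) = 0 →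
      IsReduced (Localization.AtPrime P)) : IsReduced R := by
  refine ⟨fun x hx => ?_⟩
  by_contra hne
  obtain ⟨P, hP, hle⟩ := exists_le_isAssociatedPrime_of_isNoetherianRing R x hne
  haveI := hP.isPrime
  haveI := h P ((Depth.mem_associatedPrimes_iff_depth_eq_zero P).1 hP)
  have h0 : algebraMap R (Localization.AtPrime P) x = 0 := (hx.map _).eq_zero
  obtain ⟨⟨t, ht⟩, ht0⟩ := (IsLocalization.map_eq_zero_iff P.primeCompl _ _).1 h0
  refine ht (hle ?_)
  rw [Submodule.mem_colon_singleton, Submodule.mem_bot]
  exact ht0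

theorem isField_of_reduced_of_depth_zero [IsLocalRing R] [IsNoetherianRing R] [IsReduced R]
    (h : LocCoh.depth R R = 0) : IsField R := by
  obtain ⟨-, x, hx⟩ := (isAssociatedPrime_iff (R := R) (M := R)).1 (Depth.depth_self_eq_zero_iff.1 h)
  rw [IsLocalRing.isField_iff_maximalIdeal_eq, eq_bot_iff]
  intro y hy
  by_cases hxm : x ∈ maximalIdeal R
  · have h2 : x ∈ (⊥ : Submodule R R).colon {x} := hx ▸ hxm
    rw [Submodule.mem_colon_singleton, Submodule.mem_bot, smul_eq_mul] at h2
    have hx0 : x = 0 := IsNilpotent.eq_zero ⟨2, by rw [pow_two]; exact h2⟩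
    exfalso
    refine (maximalIdeal.isMaximal R).ne_top (hx.trans ?_)
    rw [hx0, eq_top_iff]
    exact fun r _ => by simp
  · rw [hx, Submodule.mem_colon_singleton, Submodule.mem_bot, smul_eq_mul] at hy
    rw [Ideal.mem_bot]
    exact (IsLocalRing.notMem_maximalIdeal.1 hxm).mul_left_eq_zero.1 hy

end General

variable (k : Type u) {C : Type u} [Field k] [CommRing C] [Algebra k C] [Algebra.FiniteType k C]

/-- The point `Q` of `K ⊗ C` lies over `q`. -/
def Over (q : Ideal C) {K : Type u} [Field K] [Algebra k K] (Q : PrimeSpectrum (K ⊗[k] C)) : Prop :=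
  Q.asIdeal.comap (Algebra.TensorProduct.includeRight : C →ₐ[k] K ⊗[k] C).toRingHom = q

section Extension

variable {k} (K : Type u) [Field K] [Algebra k K]

attribute [local instance] Algebra.TensorProduct.rightAlgebra

omit [Algebra.FiniteType k C] in
/-- `K ⊗ C` as a `C`-module. -/
theorem exists_linearEquiv_right : Nonempty (C ⊗[k] K ≃ₗ[C] K ⊗[k] C) :=
  ⟨(AlgEquiv.ofRingEquiv (f := (Algebra.TensorProduct.comm k C K).toRingEquiv) fun a => by
    show Algebra.TensorProduct.comm k C K (a ⊗ₜ[k] (1 : K)) = (1 : K) ⊗ₜ[k] a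
    simp).toLinearEquiv⟩

omit [Algebra.FiniteType k C] in
theorem flat_right : Module.Flat C (K ⊗[k] C) :=
  let ⟨e⟩ := exists_linearEquiv_right (C := C) K
  Module.Flat.of_linearEquiv e.symm

omit [Algebra.FiniteType k C] in
theorem isIntegral_right (hK : Module.Finite k K) : Algebra.IsIntegral C (K ⊗[k] C) :=
  let ⟨e⟩ := exists_linearEquiv_right (C := C) K
  haveI : Module.Finite C (K ⊗[k] C) := Module.Finite.equiv e
  inferInstance

/-- The local ring upstairs is a flat local algebra over the one downstairs. -/
theorem depth_zero_below (q : Ideal C) [q.IsPrime] (Q : PrimeSpectrum (K ⊗[k] C)) (hQ : Over k q Q)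
    (h : LocCoh.depth (Localization.AtPrime Q.asIdeal) (Localization.AtPrime Q.asIdeal) = 0) :
    LocCoh.depth (Localization.AtPrime q) (Localization.AtPrime q) = 0 := by
  haveI : IsNoetherianRing C := Algebra.FiniteType.isNoetherianRing k C
  haveI : IsNoetherianRing (K ⊗[k] C) := Algebra.FiniteType.isNoetherianRing K _
  haveI := flat_right (C := C) (k := k) K
  haveI : Q.asIdeal.LiesOver q := ⟨hQ.symm⟩
  let φ := Localization.localRingHom q Q.asIdeal (algebraMap C (K ⊗[k] C)) (Ideal.over_def Q.asIdeal q)
  letI : Algebra (Localization.AtPrime q) (Localization.AtPrime Q.asIdeal) := φ.toAlgebra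
  haveI : IsLocalHom (algebraMap (Localization.AtPrime q) (Localization.AtPrime Q.asIdeal)) :=
    Localization.isLocalHom_localRingHom q Q.asIdeal _ (Ideal.over_def Q.asIdeal q)
  haveI : Module.Flat (Localization.AtPrime q) (Localization.AtPrime Q.asIdeal) :=
    (Groth.Agent.CMFlatLib.localRingHom_flat_iff q Q.asIdeal).2 (Module.Flat.trans C (K ⊗[k] C) _)
  haveI : IsNoetherianRing (Localization.AtPrime q) := IsLocalization.isNoetherianRing q.primeCompl _ inferInstance
  haveI : IsNoetherianRing (Localization.AtPrime Q.asIdeal) :=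
    IsLocalization.isNoetherianRing Q.asIdeal.primeCompl _ inferInstance
  by_contra hne
  obtain ⟨rs, hlen, hmem, hreg⟩ := (Depth.le_idealDepth_iff (M := Localization.AtPrime q)
    (by rw [smul_eq_mul, Ideal.mul_top]; exact (maximalIdeal.isMaximal _).ne_top) 1).1
    (Order.one_le_iff_pos.2 (pos_iff_ne_zero.2 hne))
  have h1 : ((1 : ℕ) : ℕ∞) ≤ LocCoh.depth (Localization.AtPrime Q.asIdeal) (Localization.AtPrime Q.asIdeal) := by
    refine (Depth.le_idealDepth_iff (by rw [smul_eq_mul, Ideal.mul_top]; exact (maximalIdeal.isMaximal _).ne_top) 1).2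
      ⟨rs.map (algebraMap (Localization.AtPrime q) _), by simpa using hlen, ?_, ?_⟩
    · intro r hr
      obtain ⟨r, hr', rfl⟩ := List.mem_map.1 hr
      exact map_nonunit (algebraMap (Localization.AtPrime q) (Localization.AtPrime Q.asIdeal)) r (hmem r hr')
    · exact hreg.of_flat
  rw [h] at h1
  exact absurd h1 (by simp)

theorem height_eq_of_finite (hK : Module.Finite k K) (q : Ideal C) [q.IsPrime] (Q : PrimeSpectrum (K ⊗[k] C))
    (hQ : Over k q Q) : Q.asIdeal.height = q.height := by
  haveI : IsNoetherianRing C := Algebra.FiniteType.isNoetherianRing k C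
  haveI : IsNoetherianRing (K ⊗[k] C) := Algebra.FiniteType.isNoetherianRing K _
  haveI := flat_right (C := C) (k := k) K
  haveI := isIntegral_right (C := C) (k := k) K hK
  haveI : Q.asIdeal.LiesOver q := ⟨hQ.symm⟩
  rw [Ideal.height_eq_height_add_of_liesOver_of_hasGoingDown q Q.asIdeal]
  let S := K ⊗[k] C
  let I := q.map (algebraMap C S)
  have hI : I ≤ Q.asIdeal := Ideal.map_le_iff_le_comap.2 hQ.ge
  haveI : (Q.asIdeal.map (Ideal.Quotient.mk I)).IsPrime :=
    Ideal.map_isPrime_of_surjective Ideal.Quotient.mk_surjective (by rwa [Ideal.mk_ker])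
  have hmin : Q.asIdeal.map (Ideal.Quotient.mk I) ∈ minimalPrimes (S ⧸ I) := by
    refine ⟨⟨inferInstance, bot_le⟩, fun J hJ hle => ?_⟩
    haveI := hJ.1
    have hc : J.comap (Ideal.Quotient.mk I) ≤ Q.asIdeal := fun x hx => by
      have := hle hx
      rwa [Ideal.mem_quotient_iff_mem hI] at this
    have heq : J.comap (Ideal.Quotient.mk I) = Q.asIdeal := by
      by_contra hne
      refine (Ideal.IsIntegral.comap_lt_comap (R := C) (lt_of_le_of_ne hc hne)).ne ?_
      refine (le_antisymm (Ideal.comap_mono hc) ?_)
      show Q.asIdeal.under C ≤ _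
      rw [show Q.asIdeal.under C = q from hQ]
      intro x hx
      show Ideal.Quotient.mk I (algebraMap C S x) ∈ J
      rw [Ideal.Quotient.eq_zero_iff_mem.2 (Ideal.mem_map_of_mem _ hx)]
      exact zero_mem _
    rw [← heq, Ideal.map_comap_of_surjective _ Ideal.Quotient.mk_surjective]
  show q.height + (Q.asIdeal.map (Ideal.Quotient.mk I)).height = q.height
  rw [Ideal.height_eq_zero_iff.2 hmin, add_zero]

end Extension

/-- Geometric `R_n` at `q`. -/
def GeomRkAt (n : ℕ) (q : Ideal C) : Prop :=
  ∀ (K : Type u) [Field K] [Algebra k K], Module.Finite k K → ∀ Q : PrimeSpectrum (K ⊗[k] C), Over k q Q →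
    LocCoh.HasRk n (Localization.AtPrime Q.asIdeal)

theorem geomRkAt_iff (n : ℕ) (q : Ideal C) [q.IsPrime] :
    GeomRkAt k n q ↔ ∀ p : PrimeSpectrum C, p.asIdeal ≤ q → p.asIdeal.height ≤ n →
      Algebra.FormallySmooth k (Localization.AtPrime p.asIdeal) := by
  constructor
  · intro h p hpq hht
    refine formallySmooth_of_regOver p.asIdeal fun K _ _ hK Q' hQ' => ?_
    letI : Algebra C (K ⊗[k] C) := Algebra.TensorProduct.rightAlgebra
    haveI := isIntegral_right (C := C) (k := k) K hK
    have hQ'' : Q'.asIdeal.comap (algebraMap C (K ⊗[k] C)) = p.asIdeal := hQ'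
    obtain ⟨Q, hle, hQp, hQ⟩ := Ideal.exists_ideal_over_prime_of_isIntegral q Q'.asIdeal (hQ''.le.trans hpq)
    exact (hasRk_localization_iff n Q _).1 (h K hK ⟨Q, hQp⟩ hQ) Q' hle (by rwa [height_eq_of_finite K hK p.asIdeal Q' hQ'])
  · intro h K _ _ hK Q hQ
    rw [hasRk_localization_iff n Q.asIdeal]
    intro Q' hle hht
    let p : PrimeSpectrum C :=
      PrimeSpectrum.comap (Algebra.TensorProduct.includeRight : C →ₐ[k] K ⊗[k] C).toRingHom Q'
    exact regOver_of_formallySmooth p.asIdeal
      (h p ((Ideal.comap_mono hle).trans hQ.le) (by rwa [← height_eq_of_finite K hK p.asIdeal Q' rfl])) K Q' rfl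

/-- Geometric reducedness at `q`. -/
def GeomRedAt (q : Ideal C) : Prop :=
  ∀ (K : Type u) [Field K] [Algebra k K] (Q : PrimeSpectrum (K ⊗[k] C)), Over k q Q →
    IsReduced (Localization.AtPrime Q.asIdeal)

theorem isReduced_of_ringEquiv {R S : Type u} [CommRing R] [CommRing S] (e : R ≃+* S) [IsReduced R] : IsReduced S :=
  isReduced_of_injective e.symm.toRingHom e.symm.injective

theorem depth_congr_ringEquiv {R S : Type u} [CommRing R] [CommRing S] [IsLocalRing R] [IsLocalRing S]
    [IsNoetherianRing R] [IsNoetherianRing S] (e : R ≃+* S) : LocCoh.depth S S = LocCoh.depth R R := by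
  letI : Algebra R S := e.toRingHom.toAlgebra
  haveI : IsLocalization (⊥ : Submonoid R) S := isLocalization_bot e
  haveI : Module.Flat R S := IsLocalization.flat S ⊥
  exact Depth.depth_eq_of_map_maximalIdeal R S (IsLocalRing.map_maximalIdeal_of_surjective _ e.surjective)

theorem depth_localization_under {R S : Type u} [CommRing R] [IsNoetherianRing R] [CommRing S] [Algebra R S]
    (M : Submonoid R) [IsLocalization M S] (P : Ideal S) [P.IsPrime] :
    LocCoh.depth (Localization.AtPrime P) (Localization.AtPrime P) =
      LocCoh.depth (Localization.AtPrime (P.under R)) (Localization.AtPrime (P.under R)) := by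
  haveI : IsNoetherianRing S := IsLocalization.isNoetherianRing M _ inferInstance
  haveI : IsLocalization.AtPrime (Localization.AtPrime P) (P.under R) :=
    IsLocalization.isLocalization_isLocalization_atPrime_isLocalization M (Localization.AtPrime P) P
  haveI : IsNoetherianRing (Localization.AtPrime (P.under R)) :=
    IsLocalization.isNoetherianRing (P.under R).primeCompl _ inferInstance
  haveI : IsNoetherianRing (Localization.AtPrime P) := IsLocalization.isNoetherianRing P.primeCompl _ inferInstance
  exact depth_congr_ringEquiv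
    (IsLocalization.algEquiv (P.under R).primeCompl (Localization.AtPrime (P.under R)) (Localization.AtPrime P)).toRingEquiv

theorem geomRedAt_iff (q : Ideal C) [q.IsPrime] :
    GeomRedAt k q ↔ ∀ p : PrimeSpectrum C, p.asIdeal ≤ q →
      LocCoh.depth (Localization.AtPrime p.asIdeal) (Localization.AtPrime p.asIdeal) = 0 →
        p.asIdeal.height = 0 ∧ Algebra.FormallySmooth k (Localization.AtPrime p.asIdeal) := by
  haveI : IsNoetherianRing C := Algebra.FiniteType.isNoetherianRing k C
  constructor
  · intro h p hpq hdep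
    haveI : IsNoetherianRing (Localization.AtPrime p.asIdeal) :=
      IsLocalization.isNoetherianRing p.asIdeal.primeCompl _ inferInstance
    -- reduced over every finite extension
    have hred : ∀ (K : Type u) [Field K] [Algebra k K], Module.Finite k K → ∀ Q' : PrimeSpectrum (K ⊗[k] C),
        Over k p.asIdeal Q' → IsReduced (Localization.AtPrime Q'.asIdeal) := by
      intro K _ _ hK Q' hQ'
      letI : Algebra C (K ⊗[k] C) := Algebra.TensorProduct.rightAlgebra
      haveI := isIntegral_right (C := C) (k := k) K hK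
      have hQ'' : Q'.asIdeal.comap (algebraMap C (K ⊗[k] C)) = p.asIdeal := hQ'
      obtain ⟨Q, hle, hQp, hQ⟩ := Ideal.exists_ideal_over_prime_of_isIntegral q Q'.asIdeal (hQ''.le.trans hpq)
      haveI := h K ⟨Q, hQp⟩ hQ
      letI := IsLocalization.localizationAlgebraOfSubmonoidLe (Localization.AtPrime Q)
        (Localization.AtPrime Q'.asIdeal) Q.primeCompl Q'.asIdeal.primeCompl (fun x hx h' => hx (hle h'))
      haveI := IsLocalization.localization_isScalarTower_of_submonoid_le (Localization.AtPrime Q)
        (Localization.AtPrime Q'.asIdeal) Q.primeCompl Q'.asIdeal.primeCompl (fun x hx h' => hx (hle h'))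
      haveI := IsLocalization.isLocalization_of_submonoid_le (Localization.AtPrime Q)
        (Localization.AtPrime Q'.asIdeal) Q.primeCompl Q'.asIdeal.primeCompl (fun x hx h' => hx (hle h'))
      exact isReduced_localizationPreserves (Q'.asIdeal.primeCompl.map (algebraMap (K ⊗[k] C) (Localization.AtPrime Q))) (Localization.AtPrime Q'.asIdeal) inferInstance
    have hfield : IsField (Localization.AtPrime p.asIdeal) := by
      -- a point over `p` for the trivial extension
      let e : k ⊗[k] C ≃ₐ[k] C := Algebra.TensorProduct.lid k C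
      let Q' : PrimeSpectrum (k ⊗[k] C) := PrimeSpectrum.comap e.toRingEquiv.toRingHom p
      have hQ' : Over k p.asIdeal Q' := by
        show (p.asIdeal.comap _).comap _ = p.asIdeal
        rw [Ideal.comap_comap]
        convert Ideal.comap_id p.asIdeal
        ext c
        simp [e]
      haveI := hred k inferInstance Q' hQ'
      haveI : IsReduced (Localization.AtPrime p.asIdeal) :=
        isReduced_of_injective (RingEquiv.symm (IsLocalization.ringEquivOfRingEquiv (M := Q'.asIdeal.primeCompl)
          (T := p.asIdeal.primeCompl) (Localization.AtPrime Q'.asIdeal) (Localization.AtPrime p.asIdeal) e.toRingEquiv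
          (by
            ext c
            constructor
            · rintro ⟨d, hd, rfl⟩
              exact hd
            · intro hc
              exact ⟨e.symm c, show e (e.symm c) ∉ p.asIdeal by rwa [AlgEquiv.apply_symm_apply],
                e.apply_symm_apply c⟩))).toRingHom (RingEquiv.injective _)
      exact isField_of_reduced_of_depth_zero hdep
    have hht : p.asIdeal.height = 0 := by
      have h0 := ringKrullDim_eq_zero_of_isField hfield
      rw [IsLocalization.AtPrime.ringKrullDim_eq_height p.asIdeal] at h0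
      exact WithBot.coe_eq_coe.1 h0
    refine ⟨hht, formallySmooth_of_regOver p.asIdeal fun K _ _ hK Q' hQ' => ?_⟩
    haveI := hred K hK Q' hQ'
    haveI : IsNoetherianRing (K ⊗[k] C) := Algebra.FiniteType.isNoetherianRing K _
    haveI : Ring.KrullDimLE 0 (Localization.AtPrime Q'.asIdeal) := by
      rw [Ring.krullDimLE_iff, IsLocalization.AtPrime.ringKrullDim_eq_height Q'.asIdeal,
        height_eq_of_finite K hK p.asIdeal Q' hQ', hht]
      rfl
    letI := (Ring.KrullDimLE.isField_of_isReduced (R := Localization.AtPrime Q'.asIdeal)).toField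
    exact IsRegularLocalRing.of_spanFinrank_maximalIdeal_le _ (by
      rw [IsLocalRing.maximalIdeal_eq_bot, Submodule.spanFinrank_bot]
      simp)
  · intro h K _ _ Q hQ
    haveI : IsNoetherianRing (K ⊗[k] C) := Algebra.FiniteType.isNoetherianRing K _
    haveI : IsNoetherianRing (Localization.AtPrime Q.asIdeal) :=
      IsLocalization.isNoetherianRing Q.asIdeal.primeCompl _ inferInstance
    refine isReduced_of_localizations fun P _ hP => ?_
    let Q' : PrimeSpectrum (K ⊗[k] C) := ⟨P.under (K ⊗[k] C), inferInstance⟩
    let p : PrimeSpectrum C :=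
      PrimeSpectrum.comap (Algebra.TensorProduct.includeRight : C →ₐ[k] K ⊗[k] C).toRingHom Q'
    have hle : p.asIdeal ≤ q := by
      intro x hx
      rw [← hQ]
      show (Algebra.TensorProduct.includeRight : C →ₐ[k] K ⊗[k] C) x ∈ Q.asIdeal
      by_contra hxQ
      exact Ideal.IsPrime.ne_top inferInstance (Ideal.eq_top_of_isUnit_mem P hx
        (IsLocalization.map_units _ (⟨_, hxQ⟩ : Q.asIdeal.primeCompl)))
    rw [depth_localization_under Q.asIdeal.primeCompl P] at hP
    obtain ⟨-, hs⟩ := h p hle (depth_zero_below K p.asIdeal Q' rfl hP)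
    haveI := regOver_of_formallySmooth p.asIdeal hs K Q' rfl
    haveI : IsDomain (Localization.AtPrime Q'.asIdeal) := RegLocal.isDomain _
    haveI : IsReduced (Localization.AtPrime Q'.asIdeal) := inferInstance
    haveI : IsLocalization.AtPrime (Localization.AtPrime P) (P.under (K ⊗[k] C)) :=
      IsLocalization.isLocalization_isLocalization_atPrime_isLocalization Q.asIdeal.primeCompl
        (Localization.AtPrime P) P
    exact isReduced_of_ringEquiv
      (IsLocalization.algEquiv Q'.asIdeal.primeCompl (Localization.AtPrime Q'.asIdeal) (Localization.AtPrime P)).toRingEquiv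

end Groth.Agent.GeomRk
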