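import Groth.Agent.GeomRk.FibSmooth

/-!
The condition `R_k` on the smooth points of the fibres: behaviour under change of base.
-/

set_option autoImplicit false
set_option linter.style.haveILetI false
set_option backward.isDefEq.respectTransparency false

universe u

open CategoryTheory CategoryTheory.Limits AlgebraicGeometry Topology Groth.Agent.FibreDepth

namespace Groth.Agent.GeomRk

section Algebra

variable {R S : Type u} [CommRing R] [CommRing S] [Algebra R S] [IsNoetherianRing R] [IsNoetherianRing S]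
  [Module.Flat R S]

theorem height_under_le (P : Ideal S) [P.IsPrime] : (P.under R).height ≤ P.height := by
  haveI : P.LiesOver (P.under R) := ⟨rfl⟩
  rw [Ideal.height_eq_height_add_of_liesOver_of_hasGoingDown (P.under R) P]
  exact le_self_add

/-- Below a prime of a flat algebra, every prime of the base has a prime over it of the same height. -/
theorem exists_prime_height_eq (q' : Ideal S) [q'.IsPrime] (p : Ideal R) [p.IsPrime] (hp : p ≤ q'.under R) :
    ∃ P : PrimeSpectrum S, P.asIdeal ≤ q' ∧ P.asIdeal.under R = p ∧ P.asIdeal.height = p.height := by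
  haveI : q'.LiesOver (q'.under R) := ⟨rfl⟩
  obtain ⟨P₀, hP₀, hP₀p, hover⟩ := Ideal.exists_ideal_le_liesOver_of_le (p := p) (q := q'.under R) q' hp
  have hpS : p.map (algebraMap R S) ≤ P₀ := Ideal.map_le_iff_le_comap.2 hover.over.le
  obtain ⟨P, hP, hle⟩ := Ideal.exists_minimalPrimes_le hpS
  haveI := hP.1.1
  have hu : P.under R = p :=
    le_antisymm ((Ideal.comap_mono hle).trans hover.over.ge) (Ideal.map_le_iff_le_comap.1 hP.1.2)
  refine ⟨⟨P, inferInstance⟩, hle.trans hP₀, hu, ?_⟩
  haveI : P.LiesOver p := ⟨hu.symm⟩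
  show P.height = p.height
  rw [Ideal.height_eq_height_add_of_liesOver_of_hasGoingDown p P]
  let I := p.map (algebraMap R S)
  have hmin : P.map (Ideal.Quotient.mk I) ∈ minimalPrimes (S ⧸ I) := by
    refine ⟨⟨Ideal.map_isPrime_of_surjective Ideal.Quotient.mk_surjective
      (by rw [Ideal.mk_ker]; exact hP.1.2), bot_le⟩, fun J hJ hle' => ?_⟩
    haveI := hJ.1
    have h1 : J.comap (Ideal.Quotient.mk I) ≤ P := fun x hx => by
      have := hle' hx
      rwa [Ideal.mem_quotient_iff_mem hP.1.2] at this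
    have h2 : I ≤ J.comap (Ideal.Quotient.mk I) := fun x hx => by
      rw [Ideal.mem_comap, Ideal.Quotient.eq_zero_iff_mem.2 hx]
      exact zero_mem _
    exact (Ideal.map_mono (hP.2 ⟨inferInstance, h2⟩ h1)).trans Ideal.map_comap_le
  rw [Ideal.height_eq_zero_iff.2 hmin, add_zero]

end Algebra

section Flat

variable {F' F : Scheme.{u}} (a : F' ⟶ F) [AlgebraicGeometry.Flat a] [IsLocallyNoetherian F] [IsLocallyNoetherian F']

/-- Generizations lift along a flat morphism without change of dimension, and dimensions do not drop. -/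
theorem exists_lift_dim_eq (w : F') :
    (∀ z' : F', z' ⤳ w → ringKrullDim (F.presheaf.stalk (a z')) ≤ ringKrullDim (F'.presheaf.stalk z')) ∧
      ∀ z : F, z ⤳ a w → ∃ z' : F', z' ⤳ w ∧ a z' = z ∧
        ringKrullDim (F'.presheaf.stalk z') = ringKrullDim (F.presheaf.stalk z) := by
  obtain ⟨_, ⟨U : F.Opens, (hU : IsAffineOpen U), rfl⟩, hwU, -⟩ :=
    F.isBasis_affineOpens.exists_subset_of_mem_open (Set.mem_univ (a w)) isOpen_univ
  obtain ⟨_, ⟨V : F'.Opens, (hV : IsAffineOpen V), rfl⟩, hwV, hVU⟩ :=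
    F'.isBasis_affineOpens.exists_subset_of_mem_open (a := w) (u := ↑(a ⁻¹ᵁ U)) hwU (a ⁻¹ᵁ U).2
  haveI : IsNoetherianRing Γ(F, U) := IsLocallyNoetherian.component_noetherian ⟨U, hU⟩
  haveI : IsNoetherianRing Γ(F', V) := IsLocallyNoetherian.component_noetherian ⟨V, hV⟩
  have hflat : (a.appLE U V hVU).hom.Flat := HasRingHomProperty.appLE @AlgebraicGeometry.Flat a ‹_› ⟨U, hU⟩ ⟨V, hV⟩ hVU
  algebraize [(a.appLE U V hVU).hom]
  have hcomm : ∀ P : PrimeSpectrum Γ(F', V), a (hV.fromSpec P) =
      hU.fromSpec (PrimeSpectrum.comap (algebraMap Γ(F, U) Γ(F', V)) P) := fun P =>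
    (congrArg (fun g : Spec Γ(F', V) ⟶ F => g.base P) (IsAffineOpen.SpecMap_appLE_fromSpec a hU hV hVU)).symm
  obtain ⟨Q, rfl⟩ : w ∈ Set.range hV.fromSpec := by rw [hV.range_fromSpec]; exact hwV
  constructor
  · intro z' hz'
    obtain ⟨P, rfl⟩ := hz'.mem_open hV.fromSpec.isOpenEmbedding.isOpen_range ⟨Q, rfl⟩
    rw [hcomm, DimFormulaLib.Chart.stalk_eq hU.fromSpec, DimFormulaLib.Chart.stalk_eq hV.fromSpec]
    exact WithBot.coe_le_coe.2 (height_under_le P.asIdeal)
  · intro z hz
    rw [hcomm] at hz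
    obtain ⟨p, rfl⟩ := hz.mem_open hU.fromSpec.isOpenEmbedding.isOpen_range ⟨_, rfl⟩
    have hle : p.asIdeal ≤ Q.asIdeal.under Γ(F, U) :=
      (PrimeSpectrum.le_iff_specializes _ _).2 (hU.fromSpec.isOpenEmbedding.isInducing.specializes_iff.1 hz)
    obtain ⟨P, hPQ, hu, hh⟩ := exists_prime_height_eq Q.asIdeal p.asIdeal hle
    refine ⟨hV.fromSpec P,
      ((PrimeSpectrum.le_iff_specializes P Q).1 hPQ).map hV.fromSpec.continuous, ?_, ?_⟩
    · rw [hcomm]
      exact congrArg hU.fromSpec (PrimeSpectrum.ext hu)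
    · rw [DimFormulaLib.Chart.stalk_eq hU.fromSpec, DimFormulaLib.Chart.stalk_eq hV.fromSpec, hh]

/-- The condition on points of small dimension is insensitive to a flat map. -/
theorem forall_dim_le_iff (k : ℕ) (w : F') (P' : F' → Prop) (P : F → Prop) (h : ∀ z', P' z' ↔ P (a z')) :
    (∀ z' : F', z' ⤳ w → ringKrullDim (F'.presheaf.stalk z') ≤ (k : WithBot ℕ∞) → P' z') ↔
      ∀ z : F, z ⤳ a w → ringKrullDim (F.presheaf.stalk z) ≤ (k : WithBot ℕ∞) → P z := by
  obtain ⟨h1, h2⟩ := exists_lift_dim_eq a w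
  constructor
  · intro H z hz hd
    obtain ⟨z', hz', rfl, he⟩ := h2 z hz
    exact (h z').1 (H z' hz' (he ▸ hd))
  · intro H z' hz' hd
    exact (h z').2 (H _ (hz'.map a.continuous) ((h1 z' hz').trans hd))

end Flat

variable {X Y : Scheme.{u}}

/-- The fibre through `x` is smooth at its generizations of dimension `≤ k`. -/
def FibRk (k : ℕ) (f : X ⟶ Y) (x : X) : Prop :=
  ∀ x' : X, x' ⤳ x → f.base x' = f.base x →
    ringKrullDim ((f.fiber (f.base x')).presheaf.stalk (f.asFiber x')) ≤ (k : WithBot ℕ∞) → FibSm f x'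

/-- The condition, read in the fibre. -/
def FibRkAt (k : ℕ) (f : X ⟶ Y) (y : Y) (z : f.fiber y) : Prop :=
  ∀ w : f.fiber y, w ⤳ z → ringKrullDim ((f.fiber y).presheaf.stalk w) ≤ (k : WithBot ℕ∞) →
    ((f.fiberToSpecResidueField y).stalkMap w).hom.FormallySmooth

theorem fibRk_iff_fibRkAt (k : ℕ) (f : X ⟶ Y) (x : X) : FibRk k f x ↔ FibRkAt k f (f.base x) (f.asFiber x) := by
  refine Iff.trans ?_ (forall_congr' fun z => imp_congr_left specializes_iff_mem_closure.symm)
  exact (forall_fiber_iff f (fun y z => ringKrullDim ((f.fiber y).presheaf.stalk z) ≤ (k : WithBot ℕ∞) →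
      ((f.fiberToSpecResidueField y).stalkMap z).hom.FormallySmooth) x).symm

theorem fibRk_fiberι (k : ℕ) (f : X ⟶ Y) (y : Y) (z : f.fiber y) : FibRk k f (f.fiberι y z) ↔ FibRkAt k f y z :=
  (fibRk_iff_fibRkAt k f _).trans (fib_transfer f y z (FibRkAt k f)).2

theorem isLocallyNoetherian_fiber (f : X ⟶ Y) [LocallyOfFinitePresentation f] (y : Y) :
    IsLocallyNoetherian (f.fiber y) :=
  haveI := lft_fibre f y
  LocallyOfFiniteType.isLocallyNoetherian (f.fiberToSpecResidueField y)

variable {X' Y' : Scheme.{u}} {f : X ⟶ Y} {f' : X' ⟶ Y'} {g' : X' ⟶ X} {g : Y' ⟶ Y}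

/-- The condition is insensitive to a change of base. -/
theorem fibRk_baseChange (k : ℕ) (hc : IsPullback g' f' f g) [LocallyOfFinitePresentation f]
    [LocallyOfFinitePresentation f'] (x' : X') : FibRk k f' x' ↔ FibRk k f (g' x') := by
  obtain ⟨a, hcomp, ha⟩ := exists_fibre_square hc (f' x')
  haveI := lfp_fibre f (g (f' x'))
  haveI := lfp_fibre f' (f' x')
  haveI := isLocallyNoetherian_fiber f (g (f' x'))
  haveI := isLocallyNoetherian_fiber f' (f' x')
  haveI : AlgebraicGeometry.Flat a :=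
    MorphismProperty.of_isPullback (P := @AlgebraicGeometry.Flat) ha.flip (flat_residueFieldMap g (f' x'))
  have h := S2155.result (f.fiberToSpecResidueField (g (f' x'))) (Spec.map (g.residueFieldMap (f' x')))
    (f'.fiberToSpecResidueField (f' x')) a ha (Or.inr (flat_residueFieldMap g (f' x')))
  have hx : f.fiberι (g (f' x')) (a (f'.asFiber x')) = g' x' := by
    rw [← Scheme.Hom.comp_apply, hcomp, Scheme.Hom.comp_apply, f'.fiberι_asFiber]
  rw [← hx, fibRk_fiberι, fibRk_iff_fibRkAt]
  exact forall_dim_le_iff a k (f'.asFiber x') _ _ fun z => SetLike.ext_iff.1 h z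

/-- The condition is local on the source. -/
theorem fibRk_comp_openImmersion {Z : Scheme.{u}} (j : Z ⟶ X) [IsOpenImmersion j] (f : X ⟶ Y)
    [LocallyOfFinitePresentation f] (k : ℕ) (z : Z) : FibRk k (j ≫ f) z ↔ FibRk k f (j z) := by
  let s := (j ≫ f) z
  let w := (j ≫ f).asFiber z
  let a := MoreMor.fiberMap j f s
  haveI : IsOpenImmersion a := MorphismProperty.of_isPullback (FlatLocus.isPullback_fiberMap j f s) inferInstance
  haveI := isLocallyNoetherian_fiber f s
  haveI : LocallyOfFinitePresentation (j ≫ f) := inferInstance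
  haveI := isLocallyNoetherian_fiber (j ≫ f) s
  have hw : f.fiberι s (a w) = j z := by
    have h := congrArg (fun g : (j ≫ f).fiber s ⟶ X => g w) (FlatLocus.isPullback_fiberMap j f s).w
    simp only [Scheme.Hom.comp_apply] at h
    exact h.symm.trans (congrArg j ((j ≫ f).fiberι_asFiber z))
  rw [← hw, fibRk_fiberι, fibRk_iff_fibRkAt]
  refine forall_dim_le_iff a k w _ _ fun v => ?_
  have hcomp : a ≫ f.fiberToSpecResidueField s = (j ≫ f).fiberToSpecResidueField s := pullback.lift_snd _ _ _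
  show (((j ≫ f).fiberToSpecResidueField s).stalkMap v).hom.FormallySmooth ↔ _
  rw [← hcomp, Scheme.Hom.stalkMap_comp]
  exact RingHom.FormallySmooth.respectsIso.cancel_right_isIso ((f.fiberToSpecResidueField s).stalkMap (a v))
    (a.stalkMap v)

/-- The condition on an affine chart. -/
theorem fibRk_chart [LocallyOfFinitePresentation f] (k : ℕ) {x : X} (c : DimFormulaLib.Chart f x)
    [Algebra.FinitePresentation c.A c.B] :
    FibRk k f x ↔ FibRk k (Spec.map (CommRingCat.ofHom (algebraMap c.A c.B))) c.q := by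
  let φ := Spec.map (CommRingCat.ofHom (algebraMap c.A c.B))
  haveI : LocallyOfFinitePresentation φ :=
    HasRingHomProperty.Spec_iff.2 (RingHom.finitePresentation_algebraMap.2 inferInstance)
  have hsq : IsPullback (𝟙 _) φ (c.j ≫ f) c.i :=
    IsPullback.of_horiz_isIso_mono ⟨by rw [Category.id_comp]; exact c.w⟩
  have h1 := fibRk_baseChange k hsq c.q
  rw [fibRk_comp_openImmersion c.j f] at h1
  rw [h1]
  exact iff_of_eq (congrArg (FibRk k f) c.hq.symm)

end Groth.Agent.GeomRk
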