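import Groth.Agent.GeomRk.Fibre
import Groth.Agent.S2155
import Groth.Agent.FlatLocus.SmoothFibres
import Groth.Agent.DimFormulaLib.Chart

/-!
The smooth points of the fibres: behaviour under change of base and on affine charts.
-/

set_option autoImplicit false
set_option linter.style.haveILetI false
set_option backward.isDefEq.respectTransparency false

universe u

open CategoryTheory CategoryTheory.Limits AlgebraicGeometry IsLocalRing Topology

namespace Groth.Agent.GeomRk

variable {X Y : Scheme.{u}}

/-- The fibre of `f` through `x` is smooth at `x`. -/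
def FibSm (f : X ⟶ Y) (x : X) : Prop :=
  ((f.fiberToSpecResidueField (f.base x)).stalkMap (f.asFiber x)).hom.FormallySmooth

theorem fibSm_iff_mem_smoothLocus (f : X ⟶ Y) (x : X)
    [LocallyOfFinitePresentation (f.fiberToSpecResidueField (f.base x))] :
    FibSm f x ↔ f.asFiber x ∈ (f.fiberToSpecResidueField (f.base x)).smoothLocus :=
  Iff.rfl

theorem fibSm_fiberι (f : X ⟶ Y) (y : Y) (z : f.fiber y) :
    FibSm f (f.fiberι y z) ↔ ((f.fiberToSpecResidueField y).stalkMap z).hom.FormallySmooth :=
  (FibreDepth.fib_transfer f y z fun y z => ((f.fiberToSpecResidueField y).stalkMap z).hom.FormallySmooth).2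

variable {X' Y' : Scheme.{u}} {f : X ⟶ Y} {f' : X' ⟶ Y'} {g' : X' ⟶ X} {g : Y' ⟶ Y}

/-- The map of fibres of a cartesian square, compatible with the inclusions. -/
theorem exists_fibre_square (hc : IsPullback g' f' f g) (y' : Y') :
    ∃ a : f'.fiber y' ⟶ f.fiber (g y'), a ≫ f.fiberι (g y') = f'.fiberι y' ≫ g' ∧
      IsPullback a (f'.fiberToSpecResidueField y') (f.fiberToSpecResidueField (g y'))
        (Spec.map (g.residueFieldMap y')) := by
  have hw : Spec.map (g.residueFieldMap y') ≫ Y.fromSpecResidueField (g y') = Y'.fromSpecResidueField y' ≫ g :=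
    Scheme.Hom.SpecMap_residueFieldMap_fromSpecResidueField g y'
  have h1 : IsPullback (f'.fiberι y' ≫ g') (f'.fiberToSpecResidueField y') f (Y'.fromSpecResidueField y' ≫ g) :=
    (IsPullback.of_hasPullback f' (Y'.fromSpecResidueField y')).paste_horiz hc
  let a : f'.fiber y' ⟶ f.fiber (g y') := pullback.lift (f'.fiberι y' ≫ g')
    (f'.fiberToSpecResidueField y' ≫ Spec.map (g.residueFieldMap y')) (by rw [Category.assoc, Category.assoc, hw]; exact h1.w)
  refine ⟨a, pullback.lift_fst _ _ _,
    IsPullback.of_right ?_ ?_ (IsPullback.of_hasPullback f (Y.fromSpecResidueField (g y')))⟩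
  · rw [hw]
    convert h1 using 1
    exact pullback.lift_fst _ _ _
  · exact pullback.lift_snd _ _ _

theorem flat_residueFieldMap (g : Y' ⟶ Y) (y' : Y') : Flat (Spec.map (g.residueFieldMap y')) :=
  (HasRingHomProperty.Spec_iff (P := @Flat)).2 (by
    letI := (g.residueFieldMap y').hom.toAlgebra
    exact RingHom.flat_algebraMap_iff.mpr inferInstance)

/-- Smoothness of the fibre is insensitive to a change of base. -/
theorem fibSm_baseChange (hc : IsPullback g' f' f g) [LocallyOfFinitePresentation f]
    [LocallyOfFinitePresentation f'] (x' : X') : FibSm f' x' ↔ FibSm f (g' x') := by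
  obtain ⟨a, hcomp, ha⟩ := exists_fibre_square hc (f' x')
  haveI := lfp_fibre f (g (f' x'))
  haveI := lfp_fibre f' (f' x')
  have h := S2155.result (f.fiberToSpecResidueField (g (f' x'))) (Spec.map (g.residueFieldMap (f' x')))
    (f'.fiberToSpecResidueField (f' x')) a ha (Or.inr (flat_residueFieldMap g (f' x')))
  have hx : f.fiberι (g (f' x')) (a (f'.asFiber x')) = g' x' := by
    rw [← Scheme.Hom.comp_apply, hcomp, Scheme.Hom.comp_apply, f'.fiberι_asFiber]
  rw [← hx, fibSm_fiberι]
  exact SetLike.ext_iff.1 h (f'.asFiber x')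

/-- Smoothness of the fibre is local on the source. -/
theorem fibSm_comp_openImmersion {Z : Scheme.{u}} (j : Z ⟶ X) [IsOpenImmersion j] (f : X ⟶ Y) (z : Z) :
    FibSm (j ≫ f) z ↔ FibSm f (j z) := by
  let s := (j ≫ f) z
  let w := (j ≫ f).asFiber z
  let a := MoreMor.fiberMap j f s
  haveI : IsOpenImmersion a := MorphismProperty.of_isPullback (FlatLocus.isPullback_fiberMap j f s) inferInstance
  have hw : f.fiberι s (a w) = j z := by
    have h := congrArg (fun g : (j ≫ f).fiber s ⟶ X => g w) (FlatLocus.isPullback_fiberMap j f s).w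
    simp only [Scheme.Hom.comp_apply] at h
    exact h.symm.trans (congrArg j ((j ≫ f).fiberι_asFiber z))
  rw [← hw, fibSm_fiberι]
  have hcomp : a ≫ f.fiberToSpecResidueField s = (j ≫ f).fiberToSpecResidueField s := pullback.lift_snd _ _ _
  show (((j ≫ f).fiberToSpecResidueField s).stalkMap w).hom.FormallySmooth ↔ _
  rw [← hcomp, Scheme.Hom.stalkMap_comp]
  exact RingHom.FormallySmooth.respectsIso.cancel_right_isIso ((f.fiberToSpecResidueField s).stalkMap (a w))
    (a.stalkMap w)

/-- Smoothness of the fibre on an affine chart. -/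
theorem fibSm_chart [LocallyOfFinitePresentation f] {x : X} (c : DimFormulaLib.Chart f x)
    [Algebra.FinitePresentation c.A c.B] :
    FibSm f x ↔ FibSm (Spec.map (CommRingCat.ofHom (algebraMap c.A c.B))) c.q := by
  let φ := Spec.map (CommRingCat.ofHom (algebraMap c.A c.B))
  haveI : LocallyOfFinitePresentation φ :=
    HasRingHomProperty.Spec_iff.2 (RingHom.finitePresentation_algebraMap.2 inferInstance)
  have hsq : IsPullback (𝟙 _) φ (c.j ≫ f) c.i :=
    IsPullback.of_horiz_isIso_mono ⟨by rw [Category.id_comp]; exact c.w⟩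
  have h1 := fibSm_baseChange hsq c.q
  rw [fibSm_comp_openImmersion c.j f] at h1
  rw [h1]
  exact iff_of_eq (congrArg (FibSm f) c.hq.symm)

end Groth.Agent.GeomRk
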