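import Groth.Agent.GeomRk.FamConstr
import Groth.Agent.GeomRk.FibSmooth
import Groth.Agent.FibreDepth.ConstrScheme

/-!
The smooth points of the fibres of a morphism locally of finite presentation form a locally constructible set.
-/

set_option autoImplicit false
set_option linter.style.haveILetI false

universe u

open CategoryTheory CategoryTheory.Limits AlgebraicGeometry Topology

namespace Groth.Agent.GeomRk

theorem fibSm_congr {X Y : Scheme.{u}} {f f' : X ⟶ Y} (h : f = f') (x : X) : FibSm f x ↔ FibSm f' x :=
  h ▸ Iff.rfl

theorem isOpen_fibSm_of_flat {X Y : Scheme.{u}} (f : X ⟶ Y) [LocallyOfFinitePresentation f] [AlgebraicGeometry.Flat f] :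
    IsOpen {x : X | FibSm f x} := by
  rw [show {x : X | FibSm f x} = {x : X | (f.stalkMap x).hom.FormallySmooth} from
    Set.ext fun x => fibre_smooth_iff f x (Flat.stalkMap f x)]
  exact f.isOpen_smoothLocus

/-- The map of spectra of an algebra. -/
noncomputable abbrev specMap (A B : Type u) [CommRing A] [CommRing B] [Algebra A B] :
    Spec (CommRingCat.of B) ⟶ Spec (CommRingCat.of A) :=
  Spec.map (CommRingCat.ofHom (algebraMap A B))

theorem lfp_specMap (A B : Type u) [CommRing A] [CommRing B] [Algebra A B] [Algebra.FinitePresentation A B] :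
    LocallyOfFinitePresentation (specMap A B) :=
  HasRingHomProperty.Spec_iff.2 (RingHom.finitePresentation_algebraMap.2 inferInstance)

theorem flat_specMap (A B : Type u) [CommRing A] [CommRing B] [Algebra A B] [Module.Flat A B] :
    AlgebraicGeometry.Flat (specMap A B) :=
  HasRingHomProperty.Spec_iff.2 (RingHom.flat_algebraMap_iff.2 inferInstance)

theorem isPullback_specMap (A A' B B' : Type u) [CommRing A] [CommRing A'] [CommRing B] [CommRing B']
    [Algebra A A'] [Algebra A B] [Algebra A' B'] [Algebra B B'] [Algebra A B']
    [IsScalarTower A A' B'] [IsScalarTower A B B'] [Algebra.IsPushout A A' B B'] :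
    IsPullback (specMap B B') (specMap A' B') (specMap A B) (specMap A A') :=
  (isPullback_SpecMap_of_isPushout _ _ _ _ (CommRingCat.isPushout_of_isPushout A A' B B')).flip

/-- The iso of spectra of an isomorphism of algebras. -/
theorem specMap_equiv (A B B' : Type u) [CommRing A] [CommRing B] [CommRing B'] [Algebra A B] [Algebra A B']
    (e : B ≃ₐ[A] B') :
    IsIso (Spec.map (CommRingCat.ofHom e.toRingEquiv.toRingHom)) ∧
      Spec.map (CommRingCat.ofHom e.toRingEquiv.toRingHom) ≫ specMap A B = specMap A B' := by
  refine ⟨?_, ?_⟩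
  · haveI : IsIso (CommRingCat.ofHom e.toRingEquiv.toRingHom) :=
      inferInstanceAs (IsIso e.toRingEquiv.toCommRingCatIso.hom)
    infer_instance
  · rw [← Spec.map_comp]
    congr 1
    ext a
    exact e.commutes a

/-- The smooth points of the fibres of an algebra. -/
def SmFam : Fam.{u} := fun A B _ _ _ => {q | FibSm (specMap A B) q}

theorem smFam_stableBC : Fam.StableBC SmFam.{u} := by
  intro A A' B B' _ _ _ _ _ _ _ _ _ _ _ _ _
  haveI : Algebra.FinitePresentation A' B' :=
    Algebra.FinitePresentation.equiv (Algebra.IsPushout.equiv A A' B B')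
  haveI := lfp_specMap A B
  haveI := lfp_specMap A' B'
  exact Set.ext fun q => fibSm_baseChange (isPullback_specMap A A' B B') q

theorem smFam_stableEquiv : Fam.StableEquiv SmFam.{u} := by
  intro A B B' _ _ _ _ _ e
  obtain ⟨hiso, hcomp⟩ := specMap_equiv A B B' e
  refine Set.ext fun q => (fibSm_congr hcomp q).symm.trans ?_
  exact fibSm_comp_openImmersion (Spec.map (CommRingCat.ofHom e.toRingEquiv.toRingHom)) (specMap A B) q

theorem smFam_constrFlat : Fam.ConstrFlat SmFam.{u} := by
  intro A B _ _ _ _ _ _
  haveI := lfp_specMap A B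
  haveI := flat_specMap A B
  haveI : IsNoetherianRing B := Algebra.FiniteType.isNoetherianRing A B
  have ho : IsOpen (SmFam.{u} A B) := isOpen_fibSm_of_flat (specMap A B)
  exact (IsCompact.isRetrocompact (TopologicalSpace.NoetherianSpace.isCompact _) ho).isConstructible ho

theorem isConstructible_smFam (A B : Type u) [CommRing A] [CommRing B] [Algebra A B]
    [Algebra.FinitePresentation A B] : IsConstructible (SmFam.{u} A B) :=
  Fam.isConstructible smFam_stableBC smFam_stableEquiv smFam_constrFlat A B

variable {X Y : Scheme.{u}} (f : X ⟶ Y) [LocallyOfFinitePresentation f]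

/-- The smooth points of the fibres form a locally constructible set. -/
theorem isLocallyConstructible_fibSm : IsLocallyConstructible {x : X | FibSm f x} := by
  refine FibreDepth.isLocallyConstructible_of_embeddings _ fun x => ?_
  obtain ⟨c⟩ := DimFormulaLib.exists_chart f x
  refine ⟨c.B, c.commB, c.j, c.j.isOpenEmbedding, ⟨c.q, c.hq⟩, ?_⟩
  haveI := CMFlatLib.chart_finitePresentation c
  convert isConstructible_smFam c.A c.B using 1
  ext z
  haveI : Algebra.FinitePresentation (c.move z).A (c.move z).B := CMFlatLib.chart_finitePresentation c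
  exact fibSm_chart (c.move z)

end Groth.Agent.GeomRk
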