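import Groth.Agent.GeomRk.Fibre
import Groth.Agent.FibreDepth.EquidimSk
import Groth.Agent.DimFormulaLib.Irreducible
import Groth.Agent.SerreLib.R0S1

/-!
Openness of the geometric condition `R_k` on the fibres of a flat morphism with equidimensional fibres without
embedded points.
-/

set_option autoImplicit false
set_option linter.style.haveILetI false

universe u

open CategoryTheory AlgebraicGeometry IsLocalRing Topology Groth.Agent.FibreDepth

namespace Groth.Agent.GeomRk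

attribute [local instance] Algebra.TensorProduct.rightAlgebra

/-- In an equidimensional local ring of a scheme over a field all minimal points have the same dimension. -/
theorem dims_of_equidim {k : Type u} [Field k] {F : Scheme.{u}} (g : F ⟶ Spec (CommRingCat.of k))
    [LocallyOfFiniteType g] {z' z : F} (hsp : z' ⤳ z) (hz : EGA4.IsEquidim (F.presheaf.stalk z))
    (h0 : ringKrullDim (F.presheaf.stalk z') = 0) :
    ∃ a t : ℕ, ringKrullDim (F.presheaf.stalk z) = (a : WithBot ℕ∞) ∧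
      topologicalKrullDim ↥(closure ({z} : Set F)) = (t : WithBot ℕ∞) ∧
      topologicalKrullDim ↥(closure ({z'} : Set F)) = ((a + t : ℕ) : WithBot ℕ∞) := by
  obtain ⟨c, q, rfl⟩ := exists_chart g z
  let d : DimFormulaLib.Chart g (c.j q) :=
    { A := k, B := c.C, i := 𝟙 _, j := c.j, w := c.w.trans (Category.comp_id _).symm, q := q, hq := rfl }
  haveI : IsLocallyNoetherian (Spec (CommRingCat.of k)) := inferInstance
  obtain ⟨P, hPq, rfl⟩ := c.exists_le q hsp
  obtain ⟨a, t, ha, ht, -, hh⟩ := DimFormulaLib.field_dims g (c.j q)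
  obtain ⟨b, t', -, ht', -, hh'⟩ := DimFormulaLib.field_dims g (c.j P)
  have hPmin : IsMin P := by
    refine PrimeSpectrum.isMin_iff.2 (Ideal.height_eq_zero_iff.1 ?_)
    have h := (d.move P).dim_stalk_source.symm.trans h0
    exact WithBot.coe_eq_coe.1 h
  have hrel : DimFormulaLib.relHeight P q = q.asIdeal.height := d.isEquidim_source_iff.1 hz P hPmin hPq
  have htr : ∀ (p : PrimeSpectrum c.C) (r : ℕ), DimFormulaLib.resTrdegAt g (c.j p) = r →
      Algebra.trdeg k (c.C ⧸ p.asIdeal) = r := by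
    intro p r hr
    have h := (DimFormulaLib.Chart.resTrdegAt_eq d p).symm.trans hr
    have hbot : (PrimeSpectrum.comap (algebraMap k c.C) p).asIdeal = ⊥ :=
      (Ideal.eq_bot_or_top _).resolve_right Ideal.IsPrime.ne_top'
    refine Eq.trans (DimFormulaLib.trdeg_eq_of_ringEquiv ((RingEquiv.quotientBot k).symm.trans
      (Ideal.quotEquivOfEq hbot.symm)) (RingEquiv.refl _) fun _ => rfl) h
  obtain ⟨e, he, hsum⟩ := DimFormulaLib.trdeg_eq_relHeight_add k c.C (P := P) (p := q) hPq t' t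
    (htr P t' ht') (htr q t ht)
  have hea : e = a := by
    have h1 : q.asIdeal.height = (a : ℕ∞) := WithBot.coe_eq_coe.1 (d.dim_stalk_source.symm.trans ha)
    exact_mod_cast he.symm.trans (hrel.trans h1)
  refine ⟨a, t, ha, ?_, ?_⟩
  · rw [DimFormulaLib.topologicalKrullDim_closure_singleton, hh]; rfl
  · rw [DimFormulaLib.topologicalKrullDim_closure_singleton, hh', show t' = a + t by omega]; rfl

theorem isEquidimModule_self_iff (R : Type u) [CommRing R] : EGA4.IsEquidimModule R R ↔ EGA4.IsEquidim R := by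
  unfold EGA4.IsEquidimModule EGA4.IsEquidim minimalPrimes
  rw [(Module.annihilator_eq_bot (R := R) (M := R)).2 inferInstance, Module.supportDim_self_eq_ringKrullDim]

theorem hasSk_one_iff_ass (R : Type u) [CommRing R] [IsNoetherianRing R] :
    LocCoh.HasSk 1 R R ↔ ∀ p ∈ associatedPrimes R R, p ∈ minimalPrimes R :=
  ⟨fun h _ hp => haveI := hp.isPrime; Ideal.height_eq_zero_iff.1 (SerreLib.height_eq_zero_of_hasSk_one h hp),
    fun h => SerreLib.hasSk_one_of_associatedPrimes fun p hp =>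
      haveI := hp.isPrime; Ideal.height_eq_zero_iff.2 (h p hp)⟩

theorem dim_eq_zero_of_depth_zero {R : Type u} [CommRing R] [IsLocalRing R] [IsNoetherianRing R]
    (h : LocCoh.HasSk 1 R R) (h0 : LocCoh.depth R R = 0) : ringKrullDim R = 0 := by
  rw [← IsLocalRing.maximalIdeal_height_eq_ringKrullDim,
    SerreLib.height_eq_zero_of_hasSk_one h (Depth.depth_self_eq_zero_iff.1 h0)]
  rfl

variable {X Y : Scheme.{u}} (f : X ⟶ Y) [LocallyOfFinitePresentation f]

theorem dims_of_equidim_fibre {x x' : X} (hsp : x' ⤳ x) (hb : f.base x' = f.base x)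
    (hx : EGA4.IsEquidim (fibreRingAt f x)) (h0 : ringKrullDim (fibreRingAt f x') = 0) :
    ∃ a t : ℕ, ringKrullDim (fibreRingAt f x) = (a : WithBot ℕ∞) ∧ clDim f x = (t : WithBot ℕ∞) ∧
      clDim f x' = ((a + t : ℕ) : WithBot ℕ∞) := by
  obtain ⟨z, rfl⟩ : x' ∈ Set.range (f.fiberι (f.base x)) := by rw [f.range_fiberι]; exact hb
  have hz : z ⤳ f.asFiber x := (f.fiberι (f.base x)).isEmbedding.isInducing.specializes_iff.1 <| by
    rw [f.fiberι_asFiber]; exact hsp
  have h0' : ringKrullDim ((f.fiber (f.base x)).presheaf.stalk z) = 0 :=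
    (fib_transfer f _ z fun y z => ringKrullDim ((f.fiber y).presheaf.stalk z) = 0).2.1 h0
  obtain ⟨a, t, ha, ht, hcl⟩ := @dims_of_equidim (IsLocalRing.ResidueField (Y.presheaf.stalk (f.base x))) _ _
    (f.fiberToSpecResidueField (f.base x)) (lft_fibre f _) z (f.asFiber x) hz hx h0'
  exact ⟨a, t, ha, ht, (fib_transfer f _ z fun y z =>
    topologicalKrullDim ↥(closure ({z} : Set ↥(f.fiber y))) = ((a + t : ℕ) : WithBot ℕ∞)).2.2 hcl⟩

/-- Geometric `R_k` of the fibre through `x`, read on its generisations. -/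
theorem geomRk_fibre_iff (k : ℕ) (x : X) (hx : (f.stalkMap x).hom.Flat) :
    (∀ (K : Type u) [Field K] [Algebra (IsLocalRing.ResidueField (Y.presheaf.stalk (f.base x))) K],
        Module.Finite (IsLocalRing.ResidueField (Y.presheaf.stalk (f.base x))) K →
        ∀ x' : ↥(FBase.bc (f.fiberToSpecResidueField (f.base x)) K),
          (FBase.bcπ (f.fiberToSpecResidueField (f.base x)) K).base x' = f.asFiber x →
          LocCoh.HasRk k ((FBase.bc (f.fiberToSpecResidueField (f.base x)) K).presheaf.stalk x')) ↔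
      ∀ x' : X, x' ⤳ x → f.base x' = f.base x →
        ringKrullDim (fibreRingAt f x') ≤ (k : WithBot ℕ∞) → (f.stalkMap x').hom.FormallySmooth := by
  refine (@geomRk_iff (IsLocalRing.ResidueField (Y.presheaf.stalk (f.base x))) _ _
    (f.fiberToSpecResidueField (f.base x)) (lft_fibre f _) k (f.asFiber x)).trans ?_
  refine (forall_congr' fun z => imp_congr_left specializes_iff_mem_closure).trans ?_
  refine (forall_fiber_iff f (fun y z => ringKrullDim ((f.fiber y).presheaf.stalk z) ≤ (k : WithBot ℕ∞) →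
      ((f.fiberToSpecResidueField y).stalkMap z).hom.FormallySmooth) x).trans ?_
  exact forall₃_congr fun x' hsp _ => imp_congr_right fun _ => fibre_smooth_iff f x' (flat_of_specializes f hsp hx)

theorem height_eq_of_localization {P R S : Type u} [CommRing P] [CommRing R] [CommRing S] [Algebra P R] [Algebra P S]
    (𝔯 : Ideal R) [𝔯.IsPrime] (hE : Nonempty (Localization.AtPrime 𝔯 ≃ₐ[P] S)) (d : ℕ)
    (hd : ringKrullDim S = (d : WithBot ℕ∞)) : 𝔯.height = d := by
  obtain ⟨E⟩ := hE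
  rw [← ringKrullDim_eq_of_ringEquiv E.toRingEquiv, IsLocalization.AtPrime.ringKrullDim_eq_height 𝔯] at hd
  exact WithBot.coe_eq_coe.1 hd

theorem codimAt_iff_forall_loc {P R : Type u} [CommRing P] [CommRing R] [IsRegularLocalRing R] [Algebra P R]
    (J : Ideal P) (j : ℕ) (Rr : PrimeSpectrum P → Type u) [∀ r, CommRing (Rr r)] [∀ r, Algebra P (Rr r)]
    (Q : PrimeSpectrum P → Prop)
    (hloc : ∀ (𝔯 : Ideal R) [𝔯.IsPrime], ∃ r : PrimeSpectrum P, r.asIdeal = 𝔯.comap (algebraMap P R) ∧ Q r ∧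
      Nonempty (Localization.AtPrime 𝔯 ≃ₐ[P] Rr r))
    (hex : ∀ r, Q r → ∃ 𝔯 : PrimeSpectrum R, r.asIdeal = 𝔯.asIdeal.comap (algebraMap P R))
    (hd : ∀ r, ∃ d : ℕ, ringKrullDim (Rr r) = (d : WithBot ℕ∞)) :
    CodimAt R J j ↔
      ∀ r, Q r → J ≤ r.asIdeal → ∀ d : ℕ, ringKrullDim (Rr r) = (d : WithBot ℕ∞) → j ≤ d := by
  rw [codimAt_iff_forall_height]
  constructor
  · intro H r hQ hJ d hdr
    obtain ⟨𝔯, h𝔯⟩ := hex r hQ
    obtain ⟨r', hr', -, hE⟩ := hloc 𝔯.asIdeal
    obtain rfl : r' = r := PrimeSpectrum.ext (hr'.trans h𝔯.symm)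
    have h1 := H 𝔯.asIdeal (h𝔯 ▸ hJ)
    rw [height_eq_of_localization 𝔯.asIdeal hE d hdr] at h1
    exact_mod_cast h1
  · intro H 𝔯 _ hJ
    obtain ⟨r, hr, hQ, hE⟩ := hloc 𝔯
    obtain ⟨d, hdr⟩ := hd r
    rw [height_eq_of_localization 𝔯 hE d hdr]
    exact_mod_cast H r hQ (hr ▸ hJ) d hdr

theorem codimGE_iff_forall {A : Type u} [CommRing A] {m : ℕ} (J : Ideal (MvPolynomial (Fin m) A))
    (q : PrimeSpectrum (MvPolynomial (Fin m) A)) (j : ℕ) :
    CodimGE A J q j ↔ ∀ r : PrimeSpectrum (MvPolynomial (Fin m) A),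
      (r.asIdeal ≤ q.asIdeal ∧ basePrime A r = basePrime A q) → J ≤ r.asIdeal →
        ∀ d : ℕ, ringKrullDim (FibRing A r) = (d : WithBot ℕ∞) → j ≤ d := by
  haveI := isRegularLocalRing_fibRing q
  refine codimAt_iff_forall_loc (P := MvPolynomial (Fin m) A) (R := FibRing A q) J j (fun r => FibRing A r) _
    (fun 𝔯 _ => ?_) (fun r hr => exists_prime_of_le q r hr.1 hr.2) fun r => ?_
  · obtain ⟨r, hr, hrq, hE⟩ := exists_algEquiv_fibRing q 𝔯
    exact ⟨r, hr, ⟨hrq, basePrime_eq_of_prime q 𝔯 r hr hrq⟩, hE⟩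
  · obtain ⟨d, t, hd, -, -⟩ := fibRing_dim r
    exact ⟨d, hd⟩

theorem isNoetherianRing_fibreRingAt (x : X) : IsNoetherianRing (fibreRingAt f x) :=
  isNoetherianRing_fibre_stalk f _ _

theorem isOpen_equidim_noEmbedded [Flat f] :
    IsOpen {x : X | EGA4.IsEquidimModule (fibreRingAt f x) (fibreRingAt f x) ∧
      LocCoh.HasSk 1 (fibreRingAt f x) (fibreRingAt f x)} := by
  convert isOpen_equidim_hasSk (exists_isoModel_self f) (FlatLocus.isOpen_flat_stalkMap f) (le_refl 1) using 1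
  ext x
  exact (and_iff_right (Flat.stalkMap f x)).symm

theorem isOpen_geomRk_locus [Flat f] (k : ℕ) :
    IsOpen {x : X | (∀ x' : X, x' ⤳ x → f.base x' = f.base x →
        ringKrullDim (fibreRingAt f x') ≤ (k : WithBot ℕ∞) → (f.stalkMap x').hom.FormallySmooth) ∧
      EGA4.IsEquidimModule (fibreRingAt f x) (fibreRingAt f x) ∧
      LocCoh.HasSk 1 (fibreRingAt f x) (fibreRingAt f x)} := by
  refine isOpen_iff_forall_mem_open.2 fun x ⟨hR, hA⟩ => ?_
  have hflat : ∀ x, (f.stalkMap x).hom.Flat := Flat.stalkMap f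
  have hne : ∀ x, ringKrullDim (fibreRingAt f x) ≠ ⊥ := fun x h => by
    have h' := ringKrullDim_nonneg_of_nontrivial (R := fibreRingAt f x)
    rw [h] at h'
    exact WithBot.coe_ne_bot (le_bot_iff.1 h')
  have hAo := isOpen_equidim_noEmbedded f
  obtain ⟨𝔐, q, rfl⟩ := exists_model_self f x
  obtain ⟨z₀, hsp₀, hb₀, h0₀⟩ := 𝔐.exists_min_le q (hne _)
  obtain ⟨a₀, t₀, -, -, hcl₀⟩ := dims_of_equidim_fibre f hsp₀ hb₀ ((isEquidimModule_self_iff _).1 hA.1) h0₀
  obtain ⟨d₀, n, -, hn, hnm⟩ := 𝔐.exists_dims z₀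
  have hUo := isOpen_ass_dims (exists_model_self f) hflat {n}
  have hxU : ∀ x', x' ⤳ 𝔐.emb q → f.base x' = f.base (𝔐.emb q) →
      LocCoh.depth (fibreRingAt f x') (fibreRingAt f x') = 0 → ∃ t ∈ ({n} : Finset ℕ), clDim f x' = (t : WithBot ℕ∞) := by
    intro x' hsp hb h0
    haveI := isNoetherianRing_fibreRingAt f x'
    have hd : ringKrullDim (fibreRingAt f x') = 0 :=
      dim_eq_zero_of_depth_zero (hAo.stableUnderGeneralization hsp hA).2 h0
    obtain ⟨a, t, ha, ht, hcl⟩ := dims_of_equidim_fibre f hsp hb ((isEquidimModule_self_iff _).1 hA.1) hd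
    obtain ⟨a', t', ha', ht', hcl'⟩ := dims_of_equidim_fibre f hsp₀ hb₀ ((isEquidimModule_self_iff _).1 hA.1) h0₀
    refine ⟨n, Finset.mem_singleton_self n, ?_⟩
    have e1 : a = a' := by exact_mod_cast ha.symm.trans ha'
    have e2 : t = t' := by exact_mod_cast ht.symm.trans ht'
    have e3 : n = a' + t' := by exact_mod_cast hn.symm.trans hcl'
    rw [hcl, e1, e2, e3]
  let U : Set X := {x | EGA4.IsEquidimModule (fibreRingAt f x) (fibreRingAt f x) ∧
      LocCoh.HasSk 1 (fibreRingAt f x) (fibreRingAt f x)} ∩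
    {x | ∀ x', x' ⤳ x → f.base x' = f.base x → LocCoh.depth (fibreRingAt f x') (fibreRingAt f x') = 0 →
      ∃ t ∈ ({n} : Finset ℕ), clDim f x' = (t : WithBot ℕ∞)}
  have hU : IsOpen U := hAo.inter hUo
  let Z := 𝔐.pt '' (𝔐.emb ⁻¹' {x : X | (f.stalkMap x).hom.FormallySmooth}ᶜ)
  have hZ : IsClosed Z := (PrimeSpectrum.isClosedEmbedding_comap_of_surjective _ _ 𝔐.surjective).isClosedMap _
    (f.isOpen_smoothLocus.isClosed_compl.preimage 𝔐.isOpenEmbedding.continuous)
  obtain ⟨J, hJ⟩ := (PrimeSpectrum.isClosed_iff_zeroLocus_ideal Z).1 hZ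
  let V : Set (PrimeSpectrum 𝔐.B) := {q | CodimGE 𝔐.A J (𝔐.pt q) (𝔐.m - n + k + 1)}
  have hdim : ∀ z, 𝔐.emb z ∈ U → ∃ d t s : ℕ, ringKrullDim (FibRing 𝔐.A (𝔐.pt z)) = (d : WithBot ℕ∞) ∧
      ringKrullDim (fibreRingAt f (𝔐.emb z)) = (s : WithBot ℕ∞) ∧ s + t = n ∧ d + t = 𝔐.m := by
    intro z hz
    obtain ⟨η, hsp, hb, h0⟩ := 𝔐.exists_min_le z (hne _)
    obtain ⟨s, t, hs, ht, hcl⟩ := dims_of_equidim_fibre f hsp hb ((isEquidimModule_self_iff _).1 hz.1.1) h0
    obtain ⟨n', hn', hcl'⟩ := hz.2 (𝔐.emb η) hsp hb (𝔐.dep_zero_of_supp_zero η h0)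
    rw [Finset.mem_singleton] at hn'
    obtain ⟨d, t', hd, ht', hm⟩ := 𝔐.exists_dims z
    have e1 : s + t = n' := by exact_mod_cast hcl.symm.trans hcl'
    have e2 : t = t' := by exact_mod_cast ht.symm.trans ht'
    exact ⟨d, t, s, hd, hs, by omega, by omega⟩
  have key : ∀ q', 𝔐.emb q' ∈ U → (q' ∈ V ↔ ∀ x' : X, x' ⤳ 𝔐.emb q' → f.base x' = f.base (𝔐.emb q') →
      ringKrullDim (fibreRingAt f x') ≤ (k : WithBot ℕ∞) → (f.stalkMap x').hom.FormallySmooth) := by
    intro q' hq'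
    refine Iff.trans ?_ (𝔐.forall_gen_iff q' _).symm
    show CodimGE 𝔐.A J (𝔐.pt q') _ ↔ _
    rw [codimGE_iff_forall]
    constructor
    · intro H z hz hle
      by_contra hns
      obtain ⟨d, t, s, hd, hs, hst, hdt⟩ := hdim z (hU.stableUnderGeneralization ((𝔐.pt_le_iff z q').1 hz.1) hq')
      have hzZ : 𝔐.pt z ∈ PrimeSpectrum.zeroLocus (J : Set (MvPolynomial (Fin 𝔐.m) 𝔐.A)) := hJ ▸ ⟨z, hns, rfl⟩
      have h2 := H (𝔐.pt z) hz hzZ d hd
      rw [hs] at hle
      have h3 : s ≤ k := by exact_mod_cast hle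
      omega
    · intro H r hr hJr d₁ hd₁
      have hrZ : r ∈ Z := hJ.symm ▸ (show r ∈ PrimeSpectrum.zeroLocus (J : Set (MvPolynomial (Fin 𝔐.m) 𝔐.A)) from hJr)
      obtain ⟨z, hz, rfl⟩ := hrZ
      obtain ⟨d, t, s, hd, hs, hst, hdt⟩ := hdim z (hU.stableUnderGeneralization ((𝔐.pt_le_iff z q').1 hr.1) hq')
      obtain rfl : d = d₁ := by exact_mod_cast hd.symm.trans hd₁
      by_contra hlt
      refine hz (H z hr ?_)
      rw [hs]
      exact_mod_cast (by omega : s ≤ k)
  refine ⟨𝔐.emb '' (V ∩ 𝔐.emb ⁻¹' U), ?_, 𝔐.isOpenEmbedding.isOpenMap _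
    (((isOpen_codimGE J _).preimage (PrimeSpectrum.continuous_comap _)).inter
      (hU.preimage 𝔐.isOpenEmbedding.continuous)), q, ⟨(key q ⟨hA, hxU⟩).2 hR, hA, hxU⟩, rfl⟩
  rintro _ ⟨q', ⟨hV, hq'⟩, rfl⟩
  exact ⟨(key q' hq').1 hV, hq'.1⟩

/-- The statement form: geometric `R_k`, equidimensional and without embedded points. -/
theorem isOpen_geomRk [Flat f] (k : ℕ) :
    IsOpen {x : X | (∀ (K : Type u) [Field K] [Algebra (IsLocalRing.ResidueField (Y.presheaf.stalk (f.base x))) K],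
        Module.Finite (IsLocalRing.ResidueField (Y.presheaf.stalk (f.base x))) K →
        ∀ x' : ↥(FBase.bc (f.fiberToSpecResidueField (f.base x)) K),
          (FBase.bcπ (f.fiberToSpecResidueField (f.base x)) K).base x' = f.asFiber x →
          LocCoh.HasRk k ((FBase.bc (f.fiberToSpecResidueField (f.base x)) K).presheaf.stalk x')) ∧
      EGA4.IsEquidim ↑((f.fiber (f.base x)).presheaf.stalk (f.asFiber x)) ∧
      (∀ p ∈ associatedPrimes ↑((f.fiber (f.base x)).presheaf.stalk (f.asFiber x))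
        ↑((f.fiber (f.base x)).presheaf.stalk (f.asFiber x)),
        p ∈ minimalPrimes ↑((f.fiber (f.base x)).presheaf.stalk (f.asFiber x)))} := by
  convert isOpen_geomRk_locus f k using 1
  ext x
  haveI := isNoetherianRing_fibreRingAt f x
  exact and_congr (geomRk_fibre_iff f k x (Flat.stalkMap f x))
    (and_congr (isEquidimModule_self_iff _).symm (hasSk_one_iff_ass _).symm)

theorem isOpen_geomRk_fibres [IsProper f] [Flat f] (k : ℕ) :
    IsOpen {y : Y | ∀ x : ↥(f.fiber y), (∀ (K : Type u) [Field K]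
          [Algebra (IsLocalRing.ResidueField (Y.presheaf.stalk y)) K],
        Module.Finite (IsLocalRing.ResidueField (Y.presheaf.stalk y)) K →
        ∀ x' : ↥(FBase.bc (f.fiberToSpecResidueField y) K),
          (FBase.bcπ (f.fiberToSpecResidueField y) K).base x' = x →
          LocCoh.HasRk k ((FBase.bc (f.fiberToSpecResidueField y) K).presheaf.stalk x')) ∧
      EGA4.IsEquidim ↑((f.fiber y).presheaf.stalk x) ∧
      (∀ p ∈ associatedPrimes ↑((f.fiber y).presheaf.stalk x) ↑((f.fiber y).presheaf.stalk x),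
        p ∈ minimalPrimes ↑((f.fiber y).presheaf.stalk x))} :=
  isOpen_forall_fiber _ (isOpen_geomRk f k) _ fun _ => Iff.rfl

end Groth.Agent.GeomRk
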