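import Groth.Agent.CMFlatLib.ConstructibleScheme

/-!
Constructibility of families of subsets of spectra that commute with change of base: reduction to flat algebras
over Noetherian rings by generic flatness and passage to a Noetherian model.
-/

set_option autoImplicit false
set_option linter.style.haveILetI false

universe u

open CategoryTheory AlgebraicGeometry TensorProduct Topology

namespace Groth.Agent.GeomRk

/-- A family of subsets of the spectra of algebras. -/
abbrev Fam : Type (u + 1) :=
  ∀ (A B : Type u) [CommRing A] [CommRing B] [Algebra A B], Set (PrimeSpectrum B)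

/-- The family commutes with change of base. -/
def Fam.StableBC (S : Fam.{u}) : Prop :=
  ∀ (A A' B B' : Type u) [CommRing A] [CommRing A'] [CommRing B] [CommRing B']
    [Algebra A A'] [Algebra A B] [Algebra A' B'] [Algebra B B'] [Algebra A B']
    [IsScalarTower A A' B'] [IsScalarTower A B B'] [Algebra.IsPushout A A' B B'] [Algebra.FinitePresentation A B],
    S A' B' = PrimeSpectrum.comap (algebraMap B B') ⁻¹' S A B

/-- The family is invariant under isomorphisms. -/
def Fam.StableEquiv (S : Fam.{u}) : Prop :=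
  ∀ (A B B' : Type u) [CommRing A] [CommRing B] [CommRing B'] [Algebra A B] [Algebra A B'] (e : B ≃ₐ[A] B'),
    S A B' = PrimeSpectrum.comap e.toRingEquiv.toRingHom ⁻¹' S A B

/-- The members of the family are constructible for flat algebras over Noetherian rings. -/
def Fam.ConstrFlat (S : Fam.{u}) : Prop :=
  ∀ (A B : Type u) [CommRing A] [CommRing B] [Algebra A B] [IsNoetherianRing A] [Algebra.FinitePresentation A B]
    [Module.Flat A B], IsConstructible (S A B)

variable {S : Fam.{u}}

attribute [local instance] Algebra.TensorProduct.rightAlgebra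

/-- On a dense open piece of an irreducible closed subset of the base the set is constructible. -/
theorem Fam.exists_stratum (hbc : S.StableBC) (hfl : S.ConstrFlat) {A B : Type u} [CommRing A] [CommRing B]
    [Algebra A B] [IsNoetherianRing A] [Algebra.FiniteType A B] (p : Ideal A) [p.IsPrime] :
    ∃ f ∉ p, IsConstructible (S A B ∩ {q : PrimeSpectrum B | p ≤ q.asIdeal.under A ∧ f ∉ q.asIdeal.under A}) := by
  haveI : IsDomain (A ⧸ p) := Ideal.Quotient.isDomain p
  haveI : Algebra.FinitePresentation A B := Algebra.FinitePresentation.of_finiteType.1 inferInstance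
  obtain ⟨g, -, hg0, hfree, -⟩ := GenFree.exists_algebra (R := A ⧸ p) (S := (A ⧸ p) ⊗[A] B) one_ne_zero
  obtain ⟨f, rfl⟩ := Ideal.Quotient.mk_surjective g
  refine ⟨f, fun hf => hg0 (Ideal.Quotient.eq_zero_iff_mem.2 hf), ?_⟩
  let A2 := Localization.Away (Ideal.Quotient.mk p f)
  haveI : Module.Free A2 (A2 ⊗[A ⧸ p] ((A ⧸ p) ⊗[A] B)) :=
    hfree.free A2 (IsLocalization.Away.algebraMap_isUnit _)
  haveI : Module.Flat A2 (A2 ⊗[A] B) := Module.Flat.of_linearEquiv
    (AlgebraTensorModule.cancelBaseChange A (A ⧸ p) A2 A2 B).symm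
  haveI : IsNoetherianRing A2 := IsLocalization.isNoetherianRing (Submonoid.powers (Ideal.Quotient.mk p f)) _ inferInstance
  haveI : IsNoetherianRing B := Algebra.FiniteType.isNoetherianRing A B
  haveI : Algebra.FinitePresentation A2 (A2 ⊗[A] B) := Algebra.FinitePresentation.of_finiteType.1 inferInstance
  haveI : Algebra.FiniteType A A2 :=
    Algebra.FiniteType.trans (S := A ⧸ p) inferInstance
      (IsLocalization.finiteType_of_monoid_fg (Submonoid.powers (Ideal.Quotient.mk p f)) _)
  have hfp : (algebraMap B (A2 ⊗[A] B)).FinitePresentation := by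
    haveI : Algebra.FiniteType B (B ⊗[A] A2) := inferInstance
    let e : B ⊗[A] A2 ≃ₐ[B] A2 ⊗[A] B :=
      AlgEquiv.ofRingEquiv (f := (Algebra.TensorProduct.comm A B A2).toRingEquiv) fun b => by
        show Algebra.TensorProduct.comm A B A2 (b ⊗ₜ[A] (1 : A2)) = (1 : A2) ⊗ₜ[A] b
        simp
    haveI : Algebra.FiniteType B (A2 ⊗[A] B) := Algebra.FiniteType.equiv inferInstance e
    exact RingHom.finitePresentation_algebraMap.2 (Algebra.FinitePresentation.of_finiteType.1 inferInstance)
  have hc : IsConstructible (S A2 (A2 ⊗[A] B)) := hfl _ _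
  convert PrimeSpectrum.isConstructible_comap_image hfp hc using 1
  have hS := hbc A A2 B (A2 ⊗[A] B)
  ext q
  constructor
  · rintro ⟨hE, hpq, hfq⟩
    let κ := q.asIdeal.ResidueField
    have h0 : ∀ a ∈ p, algebraMap A κ a = 0 := fun a ha => by
      rw [IsScalarTower.algebraMap_apply A B κ]
      exact Ideal.algebraMap_residueField_eq_zero.2 (hpq ha)
    let ψ : A2 →+* κ := IsLocalization.Away.lift (g := Ideal.Quotient.lift p (algebraMap A κ) h0)
      (Ideal.Quotient.mk p f) (by
        rw [Ideal.Quotient.lift_mk, IsScalarTower.algebraMap_apply A B κ]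
        exact Ne.isUnit fun h => hfq ((Ideal.algebraMap_residueField_eq_zero (I := q.asIdeal)).1 h))
    have hψ : ∀ a : A, ψ (algebraMap A A2 a) = algebraMap A κ a := fun a => by
      rw [IsScalarTower.algebraMap_apply A (A ⧸ p) A2]
      exact (IsLocalization.Away.lift_eq _ _ _).trans (Ideal.Quotient.lift_mk _ _ _)
    let ψ' : A2 →ₐ[A] κ := { ψ with commutes' := hψ }
    let Φ : A2 ⊗[A] B →ₐ[A] κ := Algebra.TensorProduct.productMap ψ' (IsScalarTower.toAlgHom A B κ)
    let Q : PrimeSpectrum (A2 ⊗[A] B) := ⟨RingHom.ker Φ.toRingHom, RingHom.ker_isPrime _⟩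
    have hQ : PrimeSpectrum.comap (algebraMap B (A2 ⊗[A] B)) Q = q := by
      refine PrimeSpectrum.ext (Ideal.ext fun b => ?_)
      show Φ ((1 : A2) ⊗ₜ[A] b) = 0 ↔ b ∈ q.asIdeal
      rw [show Φ ((1 : A2) ⊗ₜ[A] b) = algebraMap B κ b by simp [Φ, Algebra.TensorProduct.productMap_apply_tmul]]
      exact Ideal.algebraMap_residueField_eq_zero
    refine ⟨Q, ?_, hQ⟩
    rw [hS, Set.mem_preimage, hQ]
    exact hE
  · rintro ⟨Q, hQ, rfl⟩
    rw [hS] at hQ
    have hmap : ∀ x : A, algebraMap B (A2 ⊗[A] B) (algebraMap A B x) = algebraMap A2 (A2 ⊗[A] B) (algebraMap A A2 x) :=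
      fun x => (IsScalarTower.algebraMap_apply A B (A2 ⊗[A] B) x).symm.trans
        (IsScalarTower.algebraMap_apply A A2 (A2 ⊗[A] B) x)
    refine ⟨hQ, fun x hx => ?_, fun h => ?_⟩
    · show algebraMap B (A2 ⊗[A] B) (algebraMap A B x) ∈ Q.asIdeal
      rw [hmap, IsScalarTower.algebraMap_apply A (A ⧸ p) A2,
        show algebraMap A (A ⧸ p) x = 0 from Ideal.Quotient.eq_zero_iff_mem.2 hx, map_zero, map_zero]
      exact zero_mem _
    · have h' : algebraMap B (A2 ⊗[A] B) (algebraMap A B f) ∈ Q.asIdeal := h
      rw [hmap] at h'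
      refine Q.isPrime.ne_top (Ideal.eq_top_of_isUnit_mem _ h' ((?_ : IsUnit (algebraMap A A2 f)).map _))
      rw [IsScalarTower.algebraMap_apply A (A ⧸ p) A2]
      exact IsLocalization.Away.algebraMap_isUnit (Ideal.Quotient.mk p f)

theorem Fam.isConstructible_noetherian (hbc : S.StableBC) (hfl : S.ConstrFlat) {A B : Type u} [CommRing A]
    [CommRing B] [Algebra A B] [IsNoetherianRing A] [Algebra.FiniteType A B] : IsConstructible (S A B) := by
  suffices h : ∀ I : Ideal A, IsConstructible (S A B ∩ {q : PrimeSpectrum B | I ≤ q.asIdeal.under A}) by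
    simpa [Set.inter_univ] using h ⊥
  intro I
  induction I using WellFoundedGT.induction with
  | _ I ih =>
    by_cases hI : I.IsPrime
    · haveI := hI
      obtain ⟨f, hf, hc⟩ := Fam.exists_stratum (B := B) hbc hfl I
      have hlt : I < I ⊔ Ideal.span {f} := lt_of_le_of_ne le_sup_left fun h =>
        hf (h ▸ Ideal.mem_sup_right (Ideal.mem_span_singleton_self f))
      convert hc.union (ih _ hlt) using 1
      ext q
      simp only [Set.mem_inter_iff, Set.mem_union, Set.mem_ofPred_eq, sup_le_iff, Ideal.span_singleton_le_iff_mem]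
      tauto
    · have hset : S A B ∩ {q : PrimeSpectrum B | I ≤ q.asIdeal.under A} =
          ⋃ p ∈ I.minimalPrimes, S A B ∩ {q : PrimeSpectrum B | p ≤ q.asIdeal.under A} := by
        ext q
        simp only [Set.mem_iUnion, Set.mem_inter_iff, Set.mem_ofPred_eq, exists_prop]
        constructor
        · rintro ⟨hq, hIq⟩
          obtain ⟨p, hp, hpq⟩ := Ideal.exists_minimalPrimes_le hIq
          exact ⟨p, hp, hq, hpq⟩
        · rintro ⟨p, hp, hq, hpq⟩
          exact ⟨hq, hp.1.2.trans hpq⟩
      rw [hset]
      exact IsConstructible.biUnion (Ideal.finite_minimalPrimes_of_isNoetherianRing A I) fun p hp =>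
        ih p (lt_of_le_of_ne hp.1.2 fun h => hI (h ▸ hp.1.1))

/-- Constructibility for every algebra of finite presentation. -/
theorem Fam.isConstructible (hbc : S.StableBC) (he : S.StableEquiv) (hfl : S.ConstrFlat) (A B : Type u) [CommRing A]
    [CommRing B] [Algebra A B] [Algebra.FinitePresentation A B] : IsConstructible (S A B) := by
  let P := Algebra.Presentation.ofFinitePresentation A B
  haveI : IsNoetherianRing P.Core := Algebra.FiniteType.isNoetherianRing ℤ P.Core
  let e := P.tensorModelOfHasCoeffsEquiv P.Core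
  rw [he A (A ⊗[P.Core] P.ModelOfHasCoeffs P.Core) B e,
    hbc P.Core A (P.ModelOfHasCoeffs P.Core) (A ⊗[P.Core] P.ModelOfHasCoeffs P.Core)]
  exact CMFlatLib.isConstructible_comap _ (CMFlatLib.isConstructible_comap _
    (Fam.isConstructible_noetherian (A := P.Core) (B := P.ModelOfHasCoeffs P.Core) hbc hfl))

end Groth.Agent.GeomRk
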