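import Groth.Agent.GeomRk.FibreRk
import Groth.Agent.SerreLib.Normal

/-!
Geometric normality: Serre's criterion through finite extensions of the ground field, and openness on fibres.
-/

set_option autoImplicit false
set_option linter.style.haveILetI false

universe u

open CategoryTheory CategoryTheory.Limits AlgebraicGeometry IsLocalRing TensorProduct Topology Groth.Agent.FibreDepth

namespace Groth.Agent.GeomRk

section Alg

variable {R : Type u} [CommRing R] [IsNoetherianRing R]

/-- Serre's condition `S_j` of a localization, read on the ring. -/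
theorem hasSk_localization (M : Submonoid R) (S : Type u) [CommRing S] [Algebra R S] [IsLocalization M S] (j : ℕ)
    (h : ∀ (P : Ideal S) [P.IsPrime], min (j : WithBot ℕ∞) ((P.under R).height : WithBot ℕ∞) ≤
      ((LocCoh.depth (Localization.AtPrime (P.under R)) (Localization.AtPrime (P.under R)) : ℕ∞) : WithBot ℕ∞)) :
    LocCoh.HasSk j S S := by
  rw [SerreLib.hasSk_localRing_iff]
  intro P _
  rw [IsLocalization.AtPrime.ringKrullDim_eq_height P, depth_localization_under M P,
    ← IsLocalization.height_under M P]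
  exact h P

/-- Serre's condition `S_j` at the primes of a localization. -/
theorem hasSk_apply (M : Submonoid R) (S : Type u) [CommRing S] [Algebra R S] [IsLocalization M S] (j : ℕ)
    (h : LocCoh.HasSk j S S) (p : Ideal R) [p.IsPrime] (hp : Disjoint (M : Set R) p) :
    min (j : WithBot ℕ∞) (p.height : WithBot ℕ∞) ≤
      ((LocCoh.depth (Localization.AtPrime p) (Localization.AtPrime p) : ℕ∞) : WithBot ℕ∞) := by
  haveI := IsLocalization.isPrime_of_isPrime_disjoint M S p inferInstance hp
  have hu := IsLocalization.under_map_of_isPrime_disjoint M S (I := p) inferInstance hp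
  have h' := (SerreLib.hasSk_localRing_iff j).1 h (p.map (algebraMap R S))
  rw [IsLocalization.AtPrime.ringKrullDim_eq_height (p.map (algebraMap R S)), depth_localization_under M,
    ← IsLocalization.height_under M] at h'
  have key : ∀ (P : Ideal R) [P.IsPrime], P = p → min (j : WithBot ℕ∞) (P.height : WithBot ℕ∞) ≤
      ((LocCoh.depth (Localization.AtPrime P) (Localization.AtPrime P) : ℕ∞) : WithBot ℕ∞) →
      min (j : WithBot ℕ∞) (p.height : WithBot ℕ∞) ≤
      ((LocCoh.depth (Localization.AtPrime p) (Localization.AtPrime p) : ℕ∞) : WithBot ℕ∞) := by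
    rintro P _ rfl h''
    exact h''
  exact key _ hu h'

theorem hasSk_of_ringEquiv {S : Type u} [CommRing S] (e : R ≃+* S) (j : ℕ) (h : LocCoh.HasSk j R R) :
    LocCoh.HasSk j S S := by
  letI : Algebra R S := e.toRingHom.toAlgebra
  haveI : IsLocalization (⊥ : Submonoid R) S := isLocalization_bot e
  refine hasSk_localization (⊥ : Submonoid R) S j fun P _ => ?_
  haveI : IsLocalization (⊥ : Submonoid R) R := IsLocalization.self (R := R) (M := ⊥) bot_le
  exact hasSk_apply (⊥ : Submonoid R) R j h (P.under R) (Set.disjoint_left.2 fun x hx hx' =>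
    Ideal.IsPrime.ne_top inferInstance ((Ideal.eq_top_iff_one _).2 (Submonoid.mem_bot.1 hx ▸ hx')))

theorem hasSk_mono {j j' : ℕ} (hjj : j ≤ j') (h : LocCoh.HasSk j' R R) : LocCoh.HasSk j R R :=
  fun p _ => le_trans (min_le_min (by exact_mod_cast hjj) le_rfl) (h p)

/-- A local ring with `R_1` and `S_2` is a normal domain. -/
theorem normal_of_R1_S2_local [IsLocalRing R] (h1 : LocCoh.HasRk 1 R) (h2 : LocCoh.HasSk 2 R R) :
    IsDomain R ∧ IsIntegrallyClosed R := by
  let e : R ≃ₐ[R] Localization.AtPrime (maximalIdeal R) :=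
    IsLocalization.atUnits R (maximalIdeal R).primeCompl fun x hx => by
      simpa [IsLocalRing.mem_maximalIdeal, IsUnit.mem_submonoid_iff] using hx
  obtain ⟨_, _⟩ := SerreLib.normal_of_R1_S2 h1 h2 (maximalIdeal R)
  exact ⟨e.toRingEquiv.toMulEquiv.isDomain, IsIntegrallyClosed.of_equiv e.toRingEquiv.symm⟩

/-- A normal domain satisfies `R_1` and `S_2`. -/
theorem R1_S2_of_normal [IsDomain R] [IsIntegrallyClosed R] : LocCoh.HasRk 1 R ∧ LocCoh.HasSk 2 R R := by
  refine SerreLib.hasRk_one_and_hasSk_two_of_normal fun p _ => ?_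
  exact ⟨IsLocalization.isDomain_of_atPrime (Localization.AtPrime p) p,
    isIntegrallyClosed_of_isLocalization (Localization.AtPrime p) p.primeCompl p.primeCompl_le_nonZeroDivisors⟩

omit [IsNoetherianRing R] in
theorem isEquidim_of_isDomain [IsDomain R] : EGA4.IsEquidim R := by
  intro p hp
  rw [IsDomain.minimalPrimes_eq_singleton_bot, Set.mem_singleton_iff] at hp
  subst hp
  exact ringKrullDim_eq_of_ringEquiv (RingEquiv.quotientBot R)

end Alg

section Extension

variable (k : Type u) {C : Type u} [Field k] [CommRing C] [Algebra k C] [Algebra.FiniteType k C]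

attribute [local instance] Algebra.TensorProduct.rightAlgebra

theorem natCast_le_depth_over (K : Type u) [Field K] [Algebra k K] (q : Ideal C) [q.IsPrime]
    (Q : PrimeSpectrum (K ⊗[k] C)) (hQ : Over k q Q) (j : ℕ)
    (h : (j : ℕ∞) ≤ LocCoh.depth (Localization.AtPrime q) (Localization.AtPrime q)) :
    (j : ℕ∞) ≤ LocCoh.depth (Localization.AtPrime Q.asIdeal) (Localization.AtPrime Q.asIdeal) := by
  haveI : IsNoetherianRing C := Algebra.FiniteType.isNoetherianRing k C
  haveI : IsNoetherianRing (K ⊗[k] C) := Algebra.FiniteType.isNoetherianRing K _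
  haveI := flat_right (C := C) (k := k) K
  haveI : Q.asIdeal.LiesOver q := ⟨hQ.symm⟩
  let φ := Localization.localRingHom q Q.asIdeal (algebraMap C (K ⊗[k] C)) (Ideal.over_def Q.asIdeal q)
  letI : Algebra (Localization.AtPrime q) (Localization.AtPrime Q.asIdeal) := φ.toAlgebra
  haveI : IsLocalHom (algebraMap (Localization.AtPrime q) (Localization.AtPrime Q.asIdeal)) :=
    Localization.isLocalHom_localRingHom q Q.asIdeal _ (Ideal.over_def Q.asIdeal q)
  haveI : Module.Flat (Localization.AtPrime q) (Localization.AtPrime Q.asIdeal) :=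
    (Groth.Agent.CMFlatLib.localRingHom_flat_iff q Q.asIdeal).2 (Module.Flat.trans C (K ⊗[k] C) _)
  haveI : IsNoetherianRing (Localization.AtPrime q) := IsLocalization.isNoetherianRing q.primeCompl _ inferInstance
  haveI : IsNoetherianRing (Localization.AtPrime Q.asIdeal) :=
    IsLocalization.isNoetherianRing Q.asIdeal.primeCompl _ inferInstance
  obtain ⟨rs, hlen, hmem, hreg⟩ := (Depth.le_idealDepth_iff (M := Localization.AtPrime q)
    (by rw [smul_eq_mul, Ideal.mul_top]; exact (maximalIdeal.isMaximal _).ne_top) j).1 h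
  refine (Depth.le_idealDepth_iff (by rw [smul_eq_mul, Ideal.mul_top]; exact (maximalIdeal.isMaximal _).ne_top) j).2
    ⟨rs.map (algebraMap (Localization.AtPrime q) _), by simpa using hlen, ?_, ?_⟩
  · intro r hr
    obtain ⟨r, hr', rfl⟩ := List.mem_map.1 hr
    exact map_nonunit (algebraMap (Localization.AtPrime q) (Localization.AtPrime Q.asIdeal)) r (hmem r hr')
  · exact hreg.of_flat

theorem exists_over_self (q : PrimeSpectrum C) :
    ∃ Q : PrimeSpectrum (k ⊗[k] C), Over k q.asIdeal Q ∧
      Nonempty (Localization.AtPrime Q.asIdeal ≃+* Localization.AtPrime q.asIdeal) := by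
  let e : k ⊗[k] C ≃ₐ[k] C := Algebra.TensorProduct.lid k C
  let Q : PrimeSpectrum (k ⊗[k] C) := PrimeSpectrum.comap e.toRingEquiv.toRingHom q
  refine ⟨Q, ?_, ⟨IsLocalization.ringEquivOfRingEquiv (M := Q.asIdeal.primeCompl)
      (T := q.asIdeal.primeCompl) (Localization.AtPrime Q.asIdeal) (Localization.AtPrime q.asIdeal) e.toRingEquiv ?_⟩⟩
  · show (q.asIdeal.comap _).comap _ = q.asIdeal
    rw [Ideal.comap_comap]
    convert Ideal.comap_id q.asIdeal
    ext c
    simp [e]
  · ext c
    constructor
    · rintro ⟨d, hd, rfl⟩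
      exact hd
    · intro hc
      exact ⟨e.symm c, show e (e.symm c) ∉ q.asIdeal by rwa [AlgEquiv.apply_symm_apply], e.apply_symm_apply c⟩

theorem hasSk_two_over (K : Type u) [Field K] [Algebra k K] (hK : Module.Finite k K) (q : Ideal C) [q.IsPrime]
    (h : LocCoh.HasSk 2 (Localization.AtPrime q) (Localization.AtPrime q)) (Q : PrimeSpectrum (K ⊗[k] C))
    (hQ : Over k q Q) : LocCoh.HasSk 2 (Localization.AtPrime Q.asIdeal) (Localization.AtPrime Q.asIdeal) := by
  haveI : IsNoetherianRing C := Algebra.FiniteType.isNoetherianRing k C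
  haveI : IsNoetherianRing (K ⊗[k] C) := Algebra.FiniteType.isNoetherianRing K _
  refine hasSk_localization Q.asIdeal.primeCompl _ 2 fun P _ => ?_
  let Q' : PrimeSpectrum (K ⊗[k] C) := ⟨P.under (K ⊗[k] C), inferInstance⟩
  let p : PrimeSpectrum C :=
    PrimeSpectrum.comap (Algebra.TensorProduct.includeRight : C →ₐ[k] K ⊗[k] C).toRingHom Q'
  have hle : p.asIdeal ≤ q := by
    intro x hx
    rw [← hQ]
    show (Algebra.TensorProduct.includeRight : C →ₐ[k] K ⊗[k] C) x ∈ Q.asIdeal
    by_contra hxQ
    exact Ideal.IsPrime.ne_top inferInstance (Ideal.eq_top_of_isUnit_mem P hx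
      (IsLocalization.map_units _ (⟨_, hxQ⟩ : Q.asIdeal.primeCompl)))
  have h' := hasSk_apply q.primeCompl _ 2 h p.asIdeal (Set.disjoint_left.2 fun x hx hx' => hx (hle hx'))
  show min _ (Q'.asIdeal.height : WithBot ℕ∞) ≤
    ((LocCoh.depth (Localization.AtPrime Q'.asIdeal) (Localization.AtPrime Q'.asIdeal) : ℕ∞) : WithBot ℕ∞)
  rw [height_eq_of_finite K hK p.asIdeal Q' rfl]
  rw [show ((2 : ℕ) : WithBot ℕ∞) = ((2 : ℕ∞) : WithBot ℕ∞) from rfl, ← WithBot.coe_min, WithBot.coe_le_coe] at h' ⊢
  obtain ⟨a, ha⟩ : ∃ a : ℕ, min (2 : ℕ∞) p.asIdeal.height = a :=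
    ⟨_, (ENat.coe_toNat (ne_top_of_le_ne_top (ENat.natCast_ne_top 2) (min_le_left _ _))).symm⟩
  rw [ha] at h' ⊢
  exact natCast_le_depth_over k K p.asIdeal Q' rfl a h'

end Extension

section Point

variable {k : Type u} [Field k] {X : Scheme.{u}} (f : X ⟶ Spec (CommRingCat.of k)) [LocallyOfFiniteType f]

/-- Geometric normality at a point, through finite extensions. -/
theorem geomNormal_iff (x : X) :
    (∀ (K : Type u) [Field K] [Algebra k K], Module.Finite k K → ∀ x' : ↥(FBase.bc f K),
        (FBase.bcπ f K).base x' = x →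
          IsDomain ((FBase.bc f K).presheaf.stalk x') ∧ IsIntegrallyClosed ((FBase.bc f K).presheaf.stalk x')) ↔
      ((∀ (K : Type u) [Field K] [Algebra k K], Module.Finite k K → ∀ x' : ↥(FBase.bc f K),
          (FBase.bcπ f K).base x' = x → LocCoh.HasRk 1 ((FBase.bc f K).presheaf.stalk x')) ∧
        EGA4.IsEquidim (X.presheaf.stalk x) ∧
        (∀ p ∈ associatedPrimes (X.presheaf.stalk x) (X.presheaf.stalk x), p ∈ minimalPrimes (X.presheaf.stalk x))) ∧
      LocCoh.HasSk 2 (X.presheaf.stalk x) (X.presheaf.stalk x) := by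
  haveI : IsLocallyNoetherian X := LocallyOfFiniteType.isLocallyNoetherian f
  obtain ⟨c, q, rfl⟩ := exists_chart f x
  haveI : IsNoetherianRing c.C := Algebra.FiniteType.isNoetherianRing k c.C
  haveI : IsNoetherianRing (Localization.AtPrime q.asIdeal) :=
    IsLocalization.isNoetherianRing q.asIdeal.primeCompl _ inferInstance
  obtain ⟨e⟩ := c.exists_stalk_equiv q
  have hN : ∀ (R S : Type u) [CommRing R] [CommRing S], (R ≃+* S) → IsDomain R ∧ IsIntegrallyClosed R →
      IsDomain S ∧ IsIntegrallyClosed S :=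
    fun R S _ _ e ⟨_, _⟩ => ⟨e.symm.toMulEquiv.isDomain, IsIntegrallyClosed.of_equiv e⟩
  have hR : ∀ (R S : Type u) [CommRing R] [CommRing S], (R ≃+* S) → LocCoh.HasRk 1 R → LocCoh.HasRk 1 S :=
    fun R S _ _ e => hasRk_of_ringEquiv e 1
  constructor
  · intro h
    obtain ⟨Q, hQ, ⟨e'⟩⟩ := exists_over_self k q
    obtain ⟨_, _⟩ := hN _ _ (e'.trans e.symm)
      ((c.forall_over_iff k q (fun R _ => IsDomain R ∧ IsIntegrallyClosed R) hN).1 (h k inferInstance) Q hQ)
    have hS2 := (R1_S2_of_normal (R := X.presheaf.stalk (c.j q))).2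
    refine ⟨⟨fun K _ _ hK x' hx' => ?_, isEquidim_of_isDomain, ?_⟩, hS2⟩
    · haveI : LocallyOfFiniteType (pullback.snd f (Spec.map (CommRingCat.ofHom (algebraMap k K)))) :=
        MorphismProperty.pullback_snd _ _ inferInstance
      have hb : IsLocallyNoetherian (pullback f (Spec.map (CommRingCat.ofHom (algebraMap k K)))) :=
        LocallyOfFiniteType.isLocallyNoetherian (pullback.snd f (Spec.map (CommRingCat.ofHom (algebraMap k K))))
      haveI : IsLocallyNoetherian (FBase.bc f K) := hb
      obtain ⟨_, _⟩ := h K hK x' hx'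
      exact R1_S2_of_normal.1
    · exact (hasSk_one_iff_ass _).1 (hasSk_mono one_le_two hS2)
  · rintro ⟨⟨h1, -, -⟩, h2⟩ K _ _ hK
    refine (c.forall_over_iff K q (fun R _ => IsDomain R ∧ IsIntegrallyClosed R) hN).2 fun Q hQ => ?_
    haveI : IsNoetherianRing (K ⊗[k] c.C) := Algebra.FiniteType.isNoetherianRing K _
    haveI : IsNoetherianRing (Localization.AtPrime Q.asIdeal) :=
      IsLocalization.isNoetherianRing Q.asIdeal.primeCompl _ inferInstance
    exact normal_of_R1_S2_local ((c.forall_over_iff K q (fun R _ => LocCoh.HasRk 1 R) hR).1 (h1 K hK) Q hQ)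
      (hasSk_two_over k K hK q.asIdeal (hasSk_of_ringEquiv e 2 h2) Q hQ)

end Point

variable {X Y : Scheme.{u}} (f : X ⟶ Y) [LocallyOfFinitePresentation f]

theorem geomNormal_fibre_iff (y : Y) (x : f.fiber y) :
    (∀ (K : Type u) [Field K] [Algebra (IsLocalRing.ResidueField (Y.presheaf.stalk y)) K],
        Module.Finite (IsLocalRing.ResidueField (Y.presheaf.stalk y)) K →
        ∀ x' : ↥(FBase.bc (f.fiberToSpecResidueField y) K),
          (FBase.bcπ (f.fiberToSpecResidueField y) K).base x' = x →
          IsDomain ((FBase.bc (f.fiberToSpecResidueField y) K).presheaf.stalk x') ∧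
            IsIntegrallyClosed ((FBase.bc (f.fiberToSpecResidueField y) K).presheaf.stalk x')) ↔
      ((∀ (K : Type u) [Field K] [Algebra (IsLocalRing.ResidueField (Y.presheaf.stalk y)) K],
          Module.Finite (IsLocalRing.ResidueField (Y.presheaf.stalk y)) K →
          ∀ x' : ↥(FBase.bc (f.fiberToSpecResidueField y) K),
            (FBase.bcπ (f.fiberToSpecResidueField y) K).base x' = x →
            LocCoh.HasRk 1 ((FBase.bc (f.fiberToSpecResidueField y) K).presheaf.stalk x')) ∧
        EGA4.IsEquidim ↑((f.fiber y).presheaf.stalk x) ∧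
        (∀ p ∈ associatedPrimes ↑((f.fiber y).presheaf.stalk x) ↑((f.fiber y).presheaf.stalk x),
          p ∈ minimalPrimes ↑((f.fiber y).presheaf.stalk x))) ∧
      LocCoh.HasSk 2 ↑((f.fiber y).presheaf.stalk x) ↑((f.fiber y).presheaf.stalk x) :=
  @geomNormal_iff (IsLocalRing.ResidueField (Y.presheaf.stalk y)) _ _ (f.fiberToSpecResidueField y) (lft_fibre f y) x

theorem isOpen_geomNormal_fibres [IsProper f] [Flat f] :
    IsOpen {y : Y | ∀ x : ↥(f.fiber y), (∀ (K : Type u) [Field K]
          [Algebra (IsLocalRing.ResidueField (Y.presheaf.stalk y)) K],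
        Module.Finite (IsLocalRing.ResidueField (Y.presheaf.stalk y)) K →
        ∀ x' : ↥(FBase.bc (f.fiberToSpecResidueField y) K),
          (FBase.bcπ (f.fiberToSpecResidueField y) K).base x' = x →
          IsDomain ((FBase.bc (f.fiberToSpecResidueField y) K).presheaf.stalk x') ∧
            IsIntegrallyClosed ((FBase.bc (f.fiberToSpecResidueField y) K).presheaf.stalk x'))} := by
  simp only [geomNormal_fibre_iff f]
  refine isOpen_forall_fiber _ ((isOpen_geomRk f 1).inter
    (isOpen_hasSk (exists_isoModel_self f) (FlatLocus.isOpen_flat_stalkMap f) 2)) _ fun x => ?_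
  exact and_congr_right fun _ => and_iff_right (Flat.stalkMap f x)

end Groth.Agent.GeomRk
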