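import Groth.Agent.GenFree.Algebra
import Groth.Agent.KFlat.Module
import Mathlib.RingTheory.Spectrum.Prime.Chevalley

/-!
The closure of a constructible set taken fibre by fibre: over a dense open subset of an irreducible base it is the
trace of a closed subset.
-/

set_option autoImplicit false
set_option linter.style.haveILetI false

universe u

open TensorProduct Topology

namespace Groth.Agent.GeomRk

/-- The closure of a constructible subset of a spectrum consists of the specializations of its points. -/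
theorem exists_le_of_mem_closure {R : Type u} [CommRing R] {s : Set (PrimeSpectrum R)} (hs : IsConstructible s)
    {x : PrimeSpectrum R} (hx : x ∈ closure s) : ∃ t ∈ s, t.asIdeal ≤ x.asIdeal := by
  obtain ⟨S, _, φ, hφ⟩ := PrimeSpectrum.exists_range_eq_of_isConstructible hs
  subst hφ
  rw [PrimeSpectrum.closure_range_comap, PrimeSpectrum.mem_zeroLocus] at hx
  obtain ⟨η, hη, hle⟩ := Ideal.exists_minimalPrimes_le (I := RingHom.ker φ) (J := x.asIdeal) hx
  obtain ⟨η', hη', -, heq⟩ := Ideal.exists_comap_eq_of_mem_minimalPrimes (I := (⊥ : Ideal S)) φ η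
    (by rwa [← RingHom.ker_eq_comap_bot])
  exact ⟨_, ⟨⟨η', hη'⟩, rfl⟩, heq.le.trans hle⟩

section Domain

variable {A B : Type u} [CommRing A] [IsDomain A] [CommRing B] [Algebra A B]

/-- A regular element with flat quotient stays regular on the fibres. -/
theorem injective_lTensor_mul {M : Type u} [CommRing M] [Algebra A M] (g : M) (hg : ∀ z, g * z = 0 → z = 0) {f : A}
    (hM : Module.Free (Localization.Away f) (Localization.Away f ⊗[A] (M ⧸ Ideal.span {g})))
    (κ : Type u) [Field κ] [Algebra A κ] (hu : IsUnit (algebraMap A κ f)) :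
    Function.Injective ((LinearMap.mulLeft A g).lTensor κ) := by
  let A2 := Localization.Away f
  letI : Algebra A2 κ := (IsLocalization.Away.lift f hu).toAlgebra
  haveI : IsScalarTower A A2 κ := IsScalarTower.of_algebraMap_eq fun a => (IsLocalization.Away.lift_eq f hu a).symm
  let π : M →ₗ[A] M ⧸ Ideal.span {g} := (Ideal.Quotient.mkₐ A (Ideal.span {g})).toLinearMap
  have hex : Function.Exact (LinearMap.mulLeft A g) π := by
    intro x
    show Ideal.Quotient.mk _ x = 0 ↔ _
    rw [Ideal.Quotient.eq_zero_iff_mem, Ideal.mem_span_singleton', Set.mem_range]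
    exact exists_congr fun a => by rw [LinearMap.mulLeft_apply, mul_comm]
  have hinj : Function.Injective (LinearMap.mulLeft A g) := fun a b h => sub_eq_zero.1 (hg _ (by
    rw [mul_sub]
    exact sub_eq_zero.2 h))
  have hπ : Function.Surjective π := Ideal.Quotient.mk_surjective
  haveI := hM
  have h1 := KFlat.lTensor_injective_of_flat_cokernel (R := A2)
    (AlgebraTensorModule.lTensor A2 A2 (LinearMap.mulLeft A g)) (AlgebraTensorModule.lTensor A2 A2 π)
    (Module.Flat.lTensor_preserves_injective_linearMap (M := A2) _ hinj)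
    (lTensor_exact A2 hex hπ) (LinearMap.lTensor_surjective A2 hπ) κ
  let e := AlgebraTensorModule.cancelBaseChange A A2 κ κ M
  have hcomm : ∀ z, (LinearMap.mulLeft A g).lTensor κ (e z) =
      e ((AlgebraTensorModule.lTensor A2 A2 (LinearMap.mulLeft A g)).lTensor κ z) := by
    intro z
    induction z with
    | zero => simp
    | add x y hx hy => simp only [map_add, hx, hy]
    | tmul c w =>
      induction w with
      | zero => simp
      | add x y hx hy => simp only [tmul_add, map_add, hx, hy]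
      | tmul a m => simp [e]
  intro x y hxy
  obtain ⟨x, rfl⟩ := e.surjective x
  obtain ⟨y, rfl⟩ := e.surjective y
  rw [hcomm, hcomm] at hxy
  rw [h1 (e.injective hxy)]

/-- Over a dense open of the base, the fibrewise closure of a constructible set is cut out by one ideal. -/
theorem exists_relClosure_domain [IsNoetherianRing A] [Algebra.FiniteType A B] (T : Set (PrimeSpectrum B))
    (hT : IsConstructible T) :
    ∃ f : A, f ≠ 0 ∧ ∃ J : Ideal B, ∀ q : PrimeSpectrum B, f ∉ q.asIdeal.under A →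
      (J ≤ q.asIdeal ↔ ∃ r : PrimeSpectrum B, r.asIdeal ≤ q.asIdeal ∧
        r.asIdeal.under A = q.asIdeal.under A ∧ r ∈ T) := by
  classical
  haveI : IsNoetherianRing B := Algebra.FiniteType.isNoetherianRing A B
  obtain ⟨J₀, hJ₀⟩ := (PrimeSpectrum.isClosed_iff_zeroLocus_ideal (closure T)).1 isClosed_closure
  have hfin : J₀.minimalPrimes.Finite := Ideal.finite_minimalPrimes_of_isNoetherianRing B J₀
  have hmem : ∀ η ∈ J₀.minimalPrimes, ∀ hη : η.IsPrime, (⟨η, hη⟩ : PrimeSpectrum B) ∈ T := by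
    intro η hη hp
    obtain ⟨t, ht, hle⟩ := exists_le_of_mem_closure hT (x := ⟨η, hp⟩) (hJ₀ ▸ hη.1.2)
    have hJt : J₀ ≤ t.asIdeal := (hJ₀ ▸ subset_closure ht : t ∈ PrimeSpectrum.zeroLocus (J₀ : Set B))
    rwa [show (⟨η, hp⟩ : PrimeSpectrum B) = t from PrimeSpectrum.ext (le_antisymm (hη.2 ⟨t.isPrime, hJt⟩ hle) hle)]
  let Mp := hfin.toFinset.filter fun η => η.under A = ⊥
  let Mo := hfin.toFinset.filter fun η => η.under A ≠ ⊥
  have hMo : ∀ η ∈ Mo, ∃ a : A, a ≠ 0 ∧ a ∈ η.under A := fun η hη => by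
    obtain ⟨a, ha, ha0⟩ := Submodule.exists_mem_ne_zero_of_ne_bot (Finset.mem_filter.1 hη).2
    exact ⟨a, ha0, ha⟩
  choose! a ha0 ha using hMo
  let f₀ := ∏ η ∈ Mo, a η
  have hf₀ : f₀ ≠ 0 := Finset.prod_ne_zero_iff.2 fun η hη => ha0 η hη
  let J : Ideal B := Mp.inf id
  have hprime : ∀ η ∈ Mp, η.IsPrime := fun η hη => (hfin.mem_toFinset.1 (Finset.mem_filter.1 hη).1).1.1
  -- the points outside `T`
  have hEc : IsConstructible (closure T \ T) := by
    have ho : IsOpen (closure T)ᶜ := isClosed_closure.isOpen_compl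
    have h := (IsCompact.isRetrocompact (TopologicalSpace.NoetherianSpace.isCompact _) ho).isConstructible ho
    simpa using h.compl.sdiff hT
  obtain ⟨JE, hJE⟩ := (PrimeSpectrum.isClosed_iff_zeroLocus_ideal (closure (closure T \ T))).1 isClosed_closure
  obtain ⟨g, hgE, hg⟩ : ∃ g ∈ JE, ∀ η ∈ Mp, g ∉ η := by
    by_contra hcon
    push Not at hcon
    have hsub : (JE : Set B) ⊆ ⋃ η ∈ (↑Mp : Set (Ideal B)), (η : Set B) := fun g hg => by
      obtain ⟨η, h1, h2⟩ := hcon g hg
      exact Set.mem_biUnion h1 h2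
    obtain ⟨η, hη, hle⟩ := (Ideal.subset_union_prime ⊥ ⊥ fun η hη _ _ => hprime η hη).1 hsub
    have hp := hprime η hη
    have hη0 : η ∈ J₀.minimalPrimes := hfin.mem_toFinset.1 (Finset.mem_filter.1 hη).1
    obtain ⟨e, ⟨he1, he2⟩, hee⟩ := exists_le_of_mem_closure hEc (x := ⟨η, hp⟩) (hJE ▸ hle)
    have hJe : J₀ ≤ e.asIdeal := (hJ₀ ▸ he1 : e ∈ PrimeSpectrum.zeroLocus (J₀ : Set B))
    exact he2 (by
      rw [show e = ⟨η, hp⟩ from PrimeSpectrum.ext (le_antisymm hee (hη0.2 ⟨e.isPrime, hJe⟩ hee))]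
      exact hmem η hη0 hp)
  let M := B ⧸ J
  haveI : Algebra.FiniteType A M :=
    Algebra.FiniteType.of_surjective (Ideal.Quotient.mkₐ A J) Ideal.Quotient.mk_surjective
  let gb : M := Ideal.Quotient.mk J g
  haveI : Algebra.FiniteType A (M ⧸ Ideal.span {gb}) :=
    Algebra.FiniteType.of_surjective (Ideal.Quotient.mkₐ A (Ideal.span {gb})) Ideal.Quotient.mk_surjective
  obtain ⟨f, hdvd, hf, hfree, -⟩ := GenFree.exists_algebra (R := A) (S := M ⧸ Ideal.span {gb}) hf₀
  refine ⟨f, hf, J, fun q hq => ?_⟩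
  constructor
  · intro hJq
    let b := q.asIdeal.under A
    obtain ⟨r, hr, hrq⟩ := Ideal.exists_minimalPrimes_le (I := J ⊔ b.map (algebraMap A B)) (J := q.asIdeal)
      (sup_le hJq Ideal.map_comap_le)
    haveI := hr.1.1
    have hru : r.under A = b := le_antisymm (Ideal.comap_mono hrq)
      (Ideal.map_le_iff_le_comap.1 (le_sup_right.trans hr.1.2))
    refine ⟨⟨r, inferInstance⟩, hrq, hru, ?_⟩
    by_contra hrT
    have hJr : J ≤ r := le_sup_left.trans hr.1.2
    obtain ⟨η, hη, hηr⟩ := (Ideal.IsPrime.inf_le' (hp := hr.1.1) (f := id) (s := Mp)).1 hJr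
    have hrcl : (⟨r, inferInstance⟩ : PrimeSpectrum B) ∈ closure T := by
      rw [hJ₀]
      exact (hfin.mem_toFinset.1 (Finset.mem_filter.1 hη).1).1.2.trans hηr
    have hgr : g ∈ r := by
      have : (⟨r, inferInstance⟩ : PrimeSpectrum B) ∈ PrimeSpectrum.zeroLocus (JE : Set B) :=
        hJE ▸ subset_closure ⟨hrcl, hrT⟩
      exact this hgE
    -- the image of `r` in the fibre of `B/J`
    let rM : PrimeSpectrum M := ⟨r.map (Ideal.Quotient.mk J),
      Ideal.map_isPrime_of_surjective Ideal.Quotient.mk_surjective (by rwa [Ideal.mk_ker])⟩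
    have hcomap : rM.asIdeal.comap (Ideal.Quotient.mk J) = r := by
      show (r.map _).comap _ = r
      rw [Ideal.comap_map_of_surjective _ Ideal.Quotient.mk_surjective, ← RingHom.ker_eq_comap_bot, Ideal.mk_ker,
        sup_eq_left.2 hJr]
    haveI hbp : b.IsPrime := inferInstance
    let bb : PrimeSpectrum A := ⟨b, hbp⟩
    have hover : PrimeSpectrum.comap (algebraMap A M) rM = bb := by
      refine PrimeSpectrum.ext ?_
      show rM.asIdeal.comap ((Ideal.Quotient.mk J).comp (algebraMap A B)) = b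
      rw [← Ideal.comap_comap, hcomap]
      exact hru
    let e := PrimeSpectrum.preimageOrderIsoFiber A M bb
    let R' := e ⟨rM, hover⟩
    have hmin : IsMin R' := by
      refine e.isMin_apply.2 fun z hz => ?_
      show rM.asIdeal ≤ z.1.asIdeal
      have h1 : J ⊔ b.map (algebraMap A B) ≤ z.1.asIdeal.comap (Ideal.Quotient.mk J) := by
        refine sup_le (fun x hx => by
          rw [Ideal.mem_comap, Ideal.Quotient.eq_zero_iff_mem.2 hx]
          exact zero_mem _) (Ideal.map_le_iff_le_comap.2 ?_)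
        have h2 : (PrimeSpectrum.comap (algebraMap A M) z.1).asIdeal = b := congrArg PrimeSpectrum.asIdeal z.2
        exact h2.ge
      have h2 : z.1.asIdeal.comap (Ideal.Quotient.mk J) ≤ r := hcomap ▸ Ideal.comap_mono hz
      exact (Ideal.map_mono (hr.2 ⟨inferInstance, h1⟩ h2)).trans Ideal.map_comap_le
    have hsymm : R'.asIdeal.comap (Algebra.TensorProduct.includeRight : M →ₐ[A] b.Fiber M).toRingHom = rM.asIdeal :=
      congrArg (fun z => z.1.asIdeal) (e.symm_apply_apply ⟨rM, hover⟩)
    have hmem' : (1 : b.ResidueField) ⊗ₜ[A] gb ∈ R'.asIdeal := by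
      have : gb ∈ rM.asIdeal := Ideal.mem_map_of_mem _ hgr
      rw [← hsymm] at this
      exact this
    have hreg : ∀ z : M, gb * z = 0 → z = 0 := by
      intro z hz
      obtain ⟨z, rfl⟩ := Ideal.Quotient.mk_surjective z
      rw [← map_mul, Ideal.Quotient.eq_zero_iff_mem] at hz
      rw [Ideal.Quotient.eq_zero_iff_mem]
      refine Submodule.mem_finsetInf.2 fun η hη => ?_
      exact ((hprime η hη).mem_or_mem (Submodule.mem_finsetInf.1 hz η hη)).resolve_left (hg η hη)
    have hu : IsUnit (algebraMap A b.ResidueField f) :=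
      Ne.isUnit fun h => hq (Ideal.algebraMap_residueField_eq_zero.1 h)
    have hinj := injective_lTensor_mul gb hreg hfree b.ResidueField hu
    have key : ∀ w : b.Fiber M, (LinearMap.mulLeft A gb).lTensor b.ResidueField w =
        ((1 : b.ResidueField) ⊗ₜ[A] gb : b.Fiber M) * w := fun w => by
      induction w using TensorProduct.induction_on with
      | zero => simp
      | add x y hx hy => rw [map_add, hx, hy, mul_add]
      | tmul c m => simp [Algebra.TensorProduct.tmul_mul_tmul]
    have hz : ∀ x : b.Fiber M, ((1 : b.ResidueField) ⊗ₜ[A] gb : b.Fiber M) * x = 0 → x = 0 := fun x hx =>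
      hinj (((key x).trans hx).trans (map_zero _).symm)
    have hnzd : (1 : b.ResidueField) ⊗ₜ[A] gb ∈ nonZeroDivisors (b.Fiber M) :=
      ⟨hz, fun x hx => hz x (by rwa [mul_comm])⟩
    exact Set.disjoint_left.1 (Ideal.disjoint_nonZeroDivisors_of_mem_minimalPrimes
      (PrimeSpectrum.isMin_iff.1 hmin)) hmem' hnzd
  · rintro ⟨r, hrq, hru, hrT⟩
    have hJr : J₀ ≤ r.asIdeal := (hJ₀ ▸ subset_closure hrT : r ∈ PrimeSpectrum.zeroLocus (J₀ : Set B))
    obtain ⟨η, hη, hηr⟩ := Ideal.exists_minimalPrimes_le hJr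
    by_cases hb : η.under A = ⊥
    · have hmp : η ∈ Mp := Finset.mem_filter.2 ⟨hfin.mem_toFinset.2 hη, hb⟩
      exact ((Finset.inf_le hmp).trans hηr).trans hrq
    · exfalso
      have hmo : η ∈ Mo := Finset.mem_filter.2 ⟨hfin.mem_toFinset.2 hη, hb⟩
      refine hq ?_
      have h1 : a η ∣ f := (Finset.dvd_prod_of_mem a hmo).trans hdvd
      exact Ideal.mem_of_dvd _ h1 ((Ideal.comap_mono (hηr.trans hrq)) (ha η hmo))

end Domain

/-- Over a dense open of an irreducible closed subset of the base, the fibrewise closure of a constructible set is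
cut out by one ideal. -/
theorem exists_relClosure {A B : Type u} [CommRing A] [IsNoetherianRing A] [CommRing B] [Algebra A B]
    [Algebra.FiniteType A B] (T : Set (PrimeSpectrum B)) (hT : IsConstructible T) (p : Ideal A) [p.IsPrime] :
    ∃ f ∉ p, ∃ J : Ideal B, ∀ q : PrimeSpectrum B, p ≤ q.asIdeal.under A → f ∉ q.asIdeal.under A →
      (J ≤ q.asIdeal ↔ ∃ r : PrimeSpectrum B, r.asIdeal ≤ q.asIdeal ∧
        r.asIdeal.under A = q.asIdeal.under A ∧ r ∈ T) := by
  let I := p.map (algebraMap A B)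
  let π := Ideal.Quotient.mk I
  haveI : Algebra.FiniteType A (B ⧸ I) :=
    Algebra.FiniteType.of_surjective (Ideal.Quotient.mkₐ A I) Ideal.Quotient.mk_surjective
  haveI : IsScalarTower A (A ⧸ p) (B ⧸ I) := IsScalarTower.of_algebraMap_eq fun _ => rfl
  haveI : Algebra.FiniteType (A ⧸ p) (B ⧸ I) := Algebra.FiniteType.of_restrictScalars_finiteType A _ _
  haveI : IsNoetherianRing (B ⧸ I) := Algebra.FiniteType.isNoetherianRing A _
  obtain ⟨f, hf, J, hJ⟩ := exists_relClosure_domain (A := A ⧸ p) (B := B ⧸ I) (PrimeSpectrum.comap π ⁻¹' T)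
    (hT.preimage (PrimeSpectrum.continuous_comap π) fun t ht htc =>
      IsCompact.isRetrocompact (TopologicalSpace.NoetherianSpace.isCompact _) (ht.preimage (PrimeSpectrum.continuous_comap π)))
  obtain ⟨f, rfl⟩ := Ideal.Quotient.mk_surjective f
  refine ⟨f, fun h => hf (Ideal.Quotient.eq_zero_iff_mem.2 h), J.comap π, fun q hpq hfq => ?_⟩
  have hlift : ∀ r : PrimeSpectrum B, p ≤ r.asIdeal.under A →
      ∃ r' : PrimeSpectrum (B ⧸ I), PrimeSpectrum.comap π r' = r := by
    intro r hr
    have hIr : I ≤ r.asIdeal := Ideal.map_le_iff_le_comap.2 hr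
    refine ⟨⟨r.asIdeal.map π, Ideal.map_isPrime_of_surjective Ideal.Quotient.mk_surjective (by rwa [Ideal.mk_ker])⟩,
      PrimeSpectrum.ext ?_⟩
    show (r.asIdeal.map π).comap π = r.asIdeal
    rw [Ideal.comap_map_of_surjective _ Ideal.Quotient.mk_surjective, ← RingHom.ker_eq_comap_bot, Ideal.mk_ker,
      sup_eq_left.2 hIr]
  obtain ⟨q, rfl⟩ := hlift q hpq
  have hsurj := Ideal.comap_injective_of_surjective π Ideal.Quotient.mk_surjective
  have hle : ∀ (I₁ I₂ : Ideal (B ⧸ I)), I₁.comap π ≤ I₂.comap π ↔ I₁ ≤ I₂ := fun I₁ I₂ =>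
    ⟨fun h x hx => by
      obtain ⟨x, rfl⟩ := Ideal.Quotient.mk_surjective x
      exact h hx, fun h => Ideal.comap_mono h⟩
  have hunder : ∀ r : PrimeSpectrum (B ⧸ I), ((PrimeSpectrum.comap π r).asIdeal).under A =
      (r.asIdeal.under (A ⧸ p)).comap (Ideal.Quotient.mk p) := fun r => by
    ext x
    rfl
  show J.comap π ≤ q.asIdeal.comap π ↔ _
  rw [hle, hJ q (fun h => hfq ((SetLike.ext_iff.1 (hunder q) f).2 h))]
  constructor
  · rintro ⟨r, h1, h2, h3⟩
    exact ⟨PrimeSpectrum.comap π r, Ideal.comap_mono h1, by rw [hunder, hunder, h2], h3⟩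
  · rintro ⟨r, h1, h2, h3⟩
    obtain ⟨r, rfl⟩ := hlift r (h2 ▸ hpq)
    refine ⟨r, (hle _ _).1 h1, ?_, h3⟩
    rw [hunder, hunder] at h2
    exact Ideal.comap_injective_of_surjective _ Ideal.Quotient.mk_surjective h2

end Groth.Agent.GeomRk
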