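import Groth.Agent.GeomRk.RelClosure
import Groth.Agent.GeomRk.FibreRk
import Groth.Agent.GeomRk.FibRk
import Groth.Agent.FibreDepth.ConstrScheme

/-!
Constructibility of the set of points of the fibres lying over a constructible set in small codimension.
-/

set_option autoImplicit false
set_option linter.style.haveILetI false

universe u

open CategoryTheory AlgebraicGeometry TensorProduct Topology Groth.Agent.FibreDepth

namespace Groth.Agent.GeomRk

attribute [local instance] Algebra.TensorProduct.rightAlgebra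

theorem dim_le_of_localization {P R S : Type u} [CommRing P] [CommRing R] [CommRing S] [Algebra P R] [Algebra P S]
    (𝔯 : Ideal R) [𝔯.IsPrime] (hE : Nonempty (Localization.AtPrime 𝔯 ≃ₐ[P] S)) (d₀ d : ℕ)
    (hd₀ : ringKrullDim R = (d₀ : WithBot ℕ∞)) (hd : ringKrullDim S = (d : WithBot ℕ∞)) : d ≤ d₀ := by
  have h := Ideal.height_le_ringKrullDim_of_ne_top (I := 𝔯) Ideal.IsPrime.ne_top'
  rw [height_eq_of_localization 𝔯 hE d hd, hd₀] at h
  exact_mod_cast h

theorem fibRing_dim_mono {A : Type u} [CommRing A] {m : ℕ} (q r : PrimeSpectrum (MvPolynomial (Fin m) A))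
    (hle : r.asIdeal ≤ q.asIdeal) (hb : basePrime A r = basePrime A q) (dq dr : ℕ)
    (hq : ringKrullDim (FibRing A q) = (dq : WithBot ℕ∞)) (hr : ringKrullDim (FibRing A r) = (dr : WithBot ℕ∞)) :
    dr ≤ dq := by
  obtain ⟨𝔯, h𝔯⟩ := exists_prime_of_le q r hle hb
  obtain ⟨r', hr', -, hE⟩ := exists_algEquiv_fibRing q 𝔯.asIdeal
  obtain rfl : r' = r := PrimeSpectrum.ext (hr'.trans h𝔯.symm)
  exact dim_le_of_localization (P := MvPolynomial (Fin m) A) (R := FibRing A q) (S := FibRing A r') 𝔯.asIdeal hE dq dr hq hr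

/-- The points below which, in their fibre, lies a point of `T` of codimension `≤ e`. -/
def belowSet {A : Type u} [CommRing A] {m : ℕ} (T : Set (PrimeSpectrum (MvPolynomial (Fin m) A))) (e : ℕ) :
    Set (PrimeSpectrum (MvPolynomial (Fin m) A)) :=
  {q | ∃ r : PrimeSpectrum (MvPolynomial (Fin m) A), (r.asIdeal ≤ q.asIdeal ∧ basePrime A r = basePrime A q) ∧
    r ∈ T ∧ ∀ d : ℕ, ringKrullDim (FibRing A r) = (d : WithBot ℕ∞) → d ≤ e}

theorem isConstructible_belowSet {A : Type u} [CommRing A] [IsNoetherianRing A] {m : ℕ}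
    (T : Set (PrimeSpectrum (MvPolynomial (Fin m) A))) (hT : IsConstructible T) (e : ℕ) :
    IsConstructible (belowSet T e) := by
  suffices h : ∀ I : Ideal A, IsConstructible (belowSet T e ∩
      {q : PrimeSpectrum (MvPolynomial (Fin m) A) | I ≤ basePrime A q}) by
    simpa [Set.inter_univ] using h ⊥
  intro I
  induction I using WellFoundedGT.induction with
  | _ I ih =>
    by_cases hI : I.IsPrime
    · haveI := hI
      obtain ⟨f, hf, J, hJ⟩ := exists_relClosure T hT I
      have hlt : I < I ⊔ Ideal.span {f} := lt_of_le_of_ne le_sup_left fun h =>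
        hf (h ▸ Ideal.mem_sup_right (Ideal.mem_span_singleton_self f))
      have hIc : IsConstructible {q : PrimeSpectrum (MvPolynomial (Fin m) A) | I ≤ basePrime A q} := by
        have hc : IsClosed {q : PrimeSpectrum (MvPolynomial (Fin m) A) | I ≤ basePrime A q} :=
          (PrimeSpectrum.isClosed_zeroLocus (I : Set A)).preimage (PrimeSpectrum.continuous_comap (algebraMap A _))
        have ho := hc.isOpen_compl
        simpa using ((IsCompact.isRetrocompact (TopologicalSpace.NoetherianSpace.isCompact _) ho).isConstructible ho).compl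
      have hfc : IsConstructible {q : PrimeSpectrum (MvPolynomial (Fin m) A) | f ∉ basePrime A q} := by
        have ho : IsOpen {q : PrimeSpectrum (MvPolynomial (Fin m) A) | f ∉ basePrime A q} :=
          (PrimeSpectrum.basicOpen (algebraMap A (MvPolynomial (Fin m) A) f)).2
        exact (IsCompact.isRetrocompact (TopologicalSpace.NoetherianSpace.isCompact _) ho).isConstructible ho
      have hJc : IsConstructible {q : PrimeSpectrum (MvPolynomial (Fin m) A) | CodimGE A J q (e + 1)}ᶜ :=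
        ((IsCompact.isRetrocompact (TopologicalSpace.NoetherianSpace.isCompact _)
          (isOpen_codimGE J (e + 1))).isConstructible (isOpen_codimGE J (e + 1))).compl
      convert ((hJc.inter hIc).inter hfc).union (ih _ hlt) using 1
      ext q
      simp only [Set.mem_inter_iff, Set.mem_union, Set.mem_ofPred_eq, sup_le_iff, Ideal.span_singleton_le_iff_mem,
        Set.mem_compl_iff, codimGE_iff_forall]
      have key : I ≤ basePrime A q → f ∉ basePrime A q → (q ∈ belowSet T e ↔
          ¬ ∀ r : PrimeSpectrum (MvPolynomial (Fin m) A), (r.asIdeal ≤ q.asIdeal ∧ basePrime A r = basePrime A q) →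
            J ≤ r.asIdeal → ∀ d : ℕ, ringKrullDim (FibRing A r) = (d : WithBot ℕ∞) → e + 1 ≤ d) := by
        intro hIq hfq
        constructor
        · rintro ⟨r, hr, hrT, hd⟩ H
          obtain ⟨d, t, hdr, -, -⟩ := fibRing_dim r
          have hJr : J ≤ r.asIdeal :=
            (hJ r (hr.2.symm ▸ hIq : I ≤ basePrime A r) (hr.2.symm ▸ hfq : f ∉ basePrime A r)).2
              ⟨r, le_rfl, rfl, hrT⟩
          have h1 := H r hr hJr d hdr
          have h2 := hd d hdr
          omega
        · intro H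
          push Not at H
          obtain ⟨r, hr, hJr, d, hdr, hd⟩ := H
          obtain ⟨r', hle, hb, hr'T⟩ :=
            (hJ r (hr.2.symm ▸ hIq : I ≤ basePrime A r) (hr.2.symm ▸ hfq : f ∉ basePrime A r)).1 hJr
          refine ⟨r', ⟨hle.trans hr.1, hb.trans hr.2⟩, hr'T, fun d' hd' => ?_⟩
          have := fibRing_dim_mono r r' hle hb d d' hdr hd'
          omega
      constructor
      · rintro ⟨hq, hIq⟩
        by_cases hfq : f ∈ basePrime A q
        · exact Or.inr ⟨hq, hIq, hfq⟩
        · exact Or.inl ⟨⟨(key hIq hfq).1 hq, hIq⟩, hfq⟩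
      · rintro (⟨⟨hq, hIq⟩, hfq⟩ | ⟨hq, hIq, -⟩)
        · exact ⟨(key hIq hfq).2 hq, hIq⟩
        · exact ⟨hq, hIq⟩
    · have hset : belowSet T e ∩ {q : PrimeSpectrum (MvPolynomial (Fin m) A) | I ≤ basePrime A q} =
          ⋃ p ∈ I.minimalPrimes, belowSet T e ∩
            {q : PrimeSpectrum (MvPolynomial (Fin m) A) | p ≤ basePrime A q} := by
        ext q
        simp only [Set.mem_iUnion, Set.mem_inter_iff, Set.mem_ofPred_eq, exists_prop]
        constructor
        · rintro ⟨hq, hIq⟩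
          obtain ⟨p, hp, hpq⟩ := Ideal.exists_minimalPrimes_le hIq
          exact ⟨p, hp, hq, hpq⟩
        · rintro ⟨p, hp, hq, hpq⟩
          exact ⟨hq, hp.1.2.trans hpq⟩
      rw [hset]
      exact IsConstructible.biUnion (Ideal.finite_minimalPrimes_of_isNoetherianRing A I) fun p hp =>
        ih p (lt_of_le_of_ne hp.1.2 fun h => hI (h ▸ hp.1.1))

theorem codimAt_ann_sub_iff {P R : Type u} [CommRing P] [CommRing R] [Algebra P R] (M : Type u) [AddCommGroup M]
    [Module P M] [Module.Finite P M] (d s j : ℕ) (hd : ringKrullDim R = (d : WithBot ℕ∞))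
    (hs : tensSupp P R M = (s : WithBot ℕ∞)) :
    CodimAt R (Module.annihilator P M) j ↔ s + j ≤ d := by
  rw [codimAt_annihilator_iff, show Module.supportDim R (R ⊗[P] M) = (s : WithBot ℕ∞) from hs, hd, ← Nat.cast_add,
    Nat.cast_le]

section Models

variable {X Y : Scheme.{u}} {f : X ⟶ Y}
  (𝔐 : Model f (fun x => LocCoh.depth ((f.fiber (f.base x)).presheaf.stalk (f.asFiber x))
      ((f.fiber (f.base x)).presheaf.stalk (f.asFiber x)))
    (fun x => ringKrullDim ((f.fiber (f.base x)).presheaf.stalk (f.asFiber x)))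
    (fun x => (f.stalkMap x).hom.Flat))

theorem exists_supp_nat (z : PrimeSpectrum 𝔐.B) :
    ∃ d s : ℕ, ringKrullDim (FibRing 𝔐.A (𝔐.pt z)) = (d : WithBot ℕ∞) ∧
      ringKrullDim ((f.fiber (f.base (𝔐.emb z))).presheaf.stalk (f.asFiber (𝔐.emb z))) = (s : WithBot ℕ∞) ∧
      s ≤ d := by
  obtain ⟨d, t, hd, -, -⟩ := fibRing_dim (A := 𝔐.A) (𝔐.pt z)
  have hne : ringKrullDim ((f.fiber (f.base (𝔐.emb z))).presheaf.stalk (f.asFiber (𝔐.emb z))) ≠ ⊥ := fun h => by
    have h' := ringKrullDim_nonneg_of_nontrivial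
      (R := (f.fiber (f.base (𝔐.emb z))).presheaf.stalk (f.asFiber (𝔐.emb z)))
    rw [h] at h'
    exact WithBot.coe_ne_bot (le_bot_iff.1 h')
  obtain ⟨s, D, hs, -, -⟩ := 𝔐.exists_data z hne
  refine ⟨d, s, hd, hs, ?_⟩
  have h := tensSupp_le (P := MvPolynomial (Fin 𝔐.m) 𝔐.A) (FibRing 𝔐.A (𝔐.pt z)) 𝔐.M
  rw [← 𝔐.supp_eq z, hs, hd] at h
  exact_mod_cast h

theorem isConstructible_fibRk_model [IsNoetherianRing 𝔐.A] (k : ℕ)
    (hsm : IsConstructible (𝔐.emb ⁻¹' {x : X | FibSm f x})) :
    IsConstructible (𝔐.emb ⁻¹' {x : X | FibRk k f x}) := by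
  let P := MvPolynomial (Fin 𝔐.m) 𝔐.A
  haveI : IsNoetherianRing 𝔐.B := isNoetherianRing_of_surjective P 𝔐.B 𝔐.φ 𝔐.surjective
  let S := 𝔐.pt '' (𝔐.emb ⁻¹' {x : X | FibSm f x})ᶜ
  have hS : IsConstructible S :=
    PrimeSpectrum.isConstructible_comap_image
      (RingHom.FinitePresentation.of_surjective 𝔐.φ 𝔐.surjective 𝔐.ker_fg) hsm.compl
  let T : ℕ → Set (PrimeSpectrum P) := fun e => S ∩
    {r | CodimGE 𝔐.A (Module.annihilator P 𝔐.M) r (e - k)}
  have hT : ∀ e, IsConstructible (T e) := fun e =>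
    hS.inter ((IsCompact.isRetrocompact (TopologicalSpace.NoetherianSpace.isCompact _)
      (isOpen_codimGE _ (e - k))).isConstructible (isOpen_codimGE _ (e - k)))
  have hU : IsConstructible (⋃ e ∈ {e : ℕ | e ≤ 𝔐.m}, belowSet (T e) e) :=
    IsConstructible.biUnion (Set.finite_le_nat 𝔐.m) fun e _ => isConstructible_belowSet _ (hT e) e
  convert (CMFlatLib.isConstructible_comap 𝔐.φ hU).compl using 1
  ext q
  rw [Set.mem_preimage, Set.mem_ofPred_eq, Set.mem_compl_iff, Set.mem_preimage]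
  simp only [Set.mem_iUnion, Set.mem_ofPred_eq, exists_prop, not_exists, not_and]
  refine (𝔐.forall_gen_iff q _).trans ?_
  constructor
  · rintro H e - ⟨r, hr, ⟨⟨z, hz, rfl⟩, hcd⟩, hde⟩
    obtain ⟨d, s, hd, hs, hsd⟩ := exists_supp_nat 𝔐 z
    have h1 := (codimAt_ann_sub_iff (P := P) 𝔐.M d s (e - k) hd ((𝔐.supp_eq z).symm.trans hs)).1 hcd
    have h2 := hde d hd
    refine hz (H z hr ?_)
    rw [hs]
    exact_mod_cast (by omega : s ≤ k)
  · intro H z hz hle
    by_contra hns
    obtain ⟨d, s, hd, hs, hsd⟩ := exists_supp_nat 𝔐 z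
    obtain ⟨d', t, hd', -, hm⟩ := fibRing_dim (A := 𝔐.A) (𝔐.pt z)
    have hdd : d = d' := by exact_mod_cast hd.symm.trans hd'
    rw [hs] at hle
    have hsk : s ≤ k := by exact_mod_cast hle
    refine H d (by omega) ⟨𝔐.pt z, hz, ⟨⟨z, hns, rfl⟩,
      (codimAt_ann_sub_iff (P := P) 𝔐.M d s (d - k) hd ((𝔐.supp_eq z).symm.trans hs)).2 (by omega)⟩,
      fun d'' hd'' => le_of_eq (by exact_mod_cast hd''.symm.trans hd)⟩

end Models

end Groth.Agent.GeomRk
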