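import Groth.Agent.GeomRk.SmConstr
import Groth.Agent.GeomRk.RkBelow
import Groth.Agent.GeomRk.AnyExt

/-!
The geometric condition `R_k` and geometric normality on the fibres of a morphism locally of finite presentation
define locally constructible sets.
-/

set_option autoImplicit false
set_option linter.style.haveILetI false

universe u

open CategoryTheory CategoryTheory.Limits AlgebraicGeometry Topology Groth.Agent.FibreDepth

namespace Groth.Agent.GeomRk

theorem fibRk_congr (k : ℕ) {X Y : Scheme.{u}} {f f' : X ⟶ Y} (h : f = f') (x : X) :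
    FibRk k f x ↔ FibRk k f' x :=
  h ▸ Iff.rfl

theorem isLocallyConstructible_fibRk_noetherian {X Y : Scheme.{u}} (f : X ⟶ Y) [LocallyOfFinitePresentation f]
    [IsLocallyNoetherian Y] (k : ℕ) : IsLocallyConstructible {x : X | FibRk k f x} := by
  refine isLocallyConstructible_of_embeddings _ fun x => ?_
  obtain ⟨𝔐, hx, hN⟩ := exists_model_self' f x
  haveI := hN inferInstance
  exact ⟨𝔐.B, 𝔐.commB, 𝔐.emb, 𝔐.isOpenEmbedding, hx, isConstructible_fibRk_model 𝔐 k
    ((isLocallyConstructible_fibSm f).preimage_of_isOpenEmbedding 𝔐.isOpenEmbedding).isConstructible⟩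

/-- The points of the fibres of an algebra satisfying the condition. -/
def RkFam (k : ℕ) : Fam.{u} := fun A B _ _ _ => {q | FibRk k (specMap A B) q}

theorem rkFam_stableBC (k : ℕ) : Fam.StableBC (RkFam.{u} k) := by
  intro A A' B B' _ _ _ _ _ _ _ _ _ _ _ _ _
  haveI : Algebra.FinitePresentation A' B' :=
    Algebra.FinitePresentation.equiv (Algebra.IsPushout.equiv A A' B B')
  haveI := lfp_specMap A B
  haveI := lfp_specMap A' B'
  exact Set.ext fun q => fibRk_baseChange k (isPullback_specMap A A' B B') q

theorem isConstructible_rkFam_noetherian (k : ℕ) (A B : Type u) [CommRing A] [CommRing B] [Algebra A B]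
    [IsNoetherianRing A] [Algebra.FinitePresentation A B] : IsConstructible (RkFam.{u} k A B) :=
  haveI := lfp_specMap A B
  (isLocallyConstructible_fibRk_noetherian (specMap A B) k).isConstructible

theorem fibRk_equiv (k : ℕ) (A B B' : Type u) [CommRing A] [CommRing B] [CommRing B'] [Algebra A B] [Algebra A B']
    [Algebra.FinitePresentation A B] (e : B ≃ₐ[A] B') :
    RkFam.{u} k A B' = PrimeSpectrum.comap e.toRingEquiv.toRingHom ⁻¹' RkFam.{u} k A B := by
  haveI := lfp_specMap A B
  obtain ⟨hiso, hcomp⟩ := specMap_equiv A B B' e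
  refine Set.ext fun q => (fibRk_congr k hcomp q).symm.trans ?_
  exact fibRk_comp_openImmersion (Spec.map (CommRingCat.ofHom e.toRingEquiv.toRingHom)) (specMap A B) k q

attribute [local instance] Algebra.TensorProduct.rightAlgebra

open TensorProduct in
theorem isConstructible_rkFam (k : ℕ) (A B : Type u) [CommRing A] [CommRing B] [Algebra A B]
    [Algebra.FinitePresentation A B] : IsConstructible (RkFam.{u} k A B) := by
  let P := Algebra.Presentation.ofFinitePresentation A B
  haveI : IsNoetherianRing P.Core := Algebra.FiniteType.isNoetherianRing ℤ P.Core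
  let e := P.tensorModelOfHasCoeffsEquiv P.Core
  rw [fibRk_equiv k A (A ⊗[P.Core] P.ModelOfHasCoeffs P.Core) B e,
    rkFam_stableBC k P.Core A (P.ModelOfHasCoeffs P.Core) (A ⊗[P.Core] P.ModelOfHasCoeffs P.Core)]
  exact CMFlatLib.isConstructible_comap _ (CMFlatLib.isConstructible_comap _
    (isConstructible_rkFam_noetherian k P.Core (P.ModelOfHasCoeffs P.Core)))

variable {X Y : Scheme.{u}} (f : X ⟶ Y) [LocallyOfFinitePresentation f]

theorem isLocallyConstructible_fibRk (k : ℕ) : IsLocallyConstructible {x : X | FibRk k f x} := by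
  refine isLocallyConstructible_of_embeddings _ fun x => ?_
  obtain ⟨c⟩ := DimFormulaLib.exists_chart f x
  refine ⟨c.B, c.commB, c.j, c.j.isOpenEmbedding, ⟨c.q, c.hq⟩, ?_⟩
  haveI := CMFlatLib.chart_finitePresentation c
  convert isConstructible_rkFam k c.A c.B using 1
  ext z
  haveI : Algebra.FinitePresentation (c.move z).A (c.move z).B := CMFlatLib.chart_finitePresentation c
  exact fibRk_chart k (c.move z)

theorem isLocallyConstructible_fibreSk (j : ℕ) :
    IsLocallyConstructible {x : X | LocCoh.HasSk j (fibreRingAt f x) (fibreRingAt f x)} := by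
  refine isLocallyConstructible_of_embeddings _ fun x => ?_
  obtain ⟨𝔐, hx⟩ := exists_isoModel_self f x
  exact ⟨𝔐.B, 𝔐.commB, 𝔐.emb, 𝔐.isOpenEmbedding, hx, 𝔐.isConstructible_hasSk j⟩

theorem geomRk_any_iff_fibRk (k : ℕ) (x : X) :
    (∀ (K : Type u) [Field K] [Algebra (IsLocalRing.ResidueField (Y.presheaf.stalk (f.base x))) K]
        (x' : ↥(FBase.bc (f.fiberToSpecResidueField (f.base x)) K)),
        (FBase.bcπ (f.fiberToSpecResidueField (f.base x)) K).base x' = f.asFiber x →
          LocCoh.HasRk k ((FBase.bc (f.fiberToSpecResidueField (f.base x)) K).presheaf.stalk x')) ↔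
      FibRk k f x :=
  (@geomRk_iff_any (IsLocalRing.ResidueField (Y.presheaf.stalk (f.base x))) _ _
    (f.fiberToSpecResidueField (f.base x)) (lft_fibre f _) k (f.asFiber x)).trans (fibRk_iff_fibRkAt k f x).symm

theorem geomNormal_any_iff_fibRk (x : X) :
    (∀ (K : Type u) [Field K] [Algebra (IsLocalRing.ResidueField (Y.presheaf.stalk (f.base x))) K]
        (x' : ↥(FBase.bc (f.fiberToSpecResidueField (f.base x)) K)),
        (FBase.bcπ (f.fiberToSpecResidueField (f.base x)) K).base x' = f.asFiber x →
          (IsDomain ((FBase.bc (f.fiberToSpecResidueField (f.base x)) K).presheaf.stalk x') ∧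
            IsIntegrallyClosed ((FBase.bc (f.fiberToSpecResidueField (f.base x)) K).presheaf.stalk x'))) ↔
      FibRk 1 f x ∧ LocCoh.HasSk 2 (fibreRingAt f x) (fibreRingAt f x) :=
  (@geomNormal_iff_any (IsLocalRing.ResidueField (Y.presheaf.stalk (f.base x))) _ _
    (f.fiberToSpecResidueField (f.base x)) (lft_fibre f _) (f.asFiber x)).trans
      (and_congr_left fun _ => (fibRk_iff_fibRkAt 1 f x).symm)

theorem isLocallyConstructible_geomRk (k : ℕ) :
    IsLocallyConstructible {x : X |
      ∀ (K : Type u) [Field K] [Algebra (IsLocalRing.ResidueField (Y.presheaf.stalk (f.base x))) K]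
        (x' : ↥(FBase.bc (f.fiberToSpecResidueField (f.base x)) K)),
        (FBase.bcπ (f.fiberToSpecResidueField (f.base x)) K).base x' = f.asFiber x →
          LocCoh.HasRk k ((FBase.bc (f.fiberToSpecResidueField (f.base x)) K).presheaf.stalk x')} := by
  convert isLocallyConstructible_fibRk f k using 1
  exact Set.ext fun x => geomRk_any_iff_fibRk f k x

theorem isLocallyConstructible_geomNormal :
    IsLocallyConstructible {x : X |
      ∀ (K : Type u) [Field K] [Algebra (IsLocalRing.ResidueField (Y.presheaf.stalk (f.base x))) K]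
        (x' : ↥(FBase.bc (f.fiberToSpecResidueField (f.base x)) K)),
        (FBase.bcπ (f.fiberToSpecResidueField (f.base x)) K).base x' = f.asFiber x →
          (IsDomain ((FBase.bc (f.fiberToSpecResidueField (f.base x)) K).presheaf.stalk x') ∧
            IsIntegrallyClosed ((FBase.bc (f.fiberToSpecResidueField (f.base x)) K).presheaf.stalk x'))} := by
  convert (isLocallyConstructible_fibRk f 1).inter (isLocallyConstructible_fibreSk f 2) using 1
  exact Set.ext fun x => geomNormal_any_iff_fibRk f x

end Groth.Agent.GeomRk
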